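import Groth.Agent.ProEtLim.Sections

/-!
The limit of an adic sequence of pro-etale sheaves of modules modulo a power of the ideal.
-/

set_option autoImplicit false
set_option backward.isDefEq.respectTransparency false
set_option backward.isDefEq.respectTransparency.types false
set_option linter.style.haveILetI false
set_option linter.unusedSectionVars false
set_option maxHeartbeats 1000000
set_option synthInstance.maxHeartbeats 200000

universe u

open CategoryTheory CategoryTheory.Limits AlgebraicGeometry Opposite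

noncomputable section

namespace Groth.Agent.ProEtLim

variable {Λ : Type (u + 1)} [CommRing Λ] {X : Scheme.{u}}

theorem eq_zero_of_secMap {F G : EtModW.ModP Λ X} (φ : F ⟶ G)
    (h : ∀ U : X.ProEt, ProEtS.IsWC U → ∀ x, secMap φ U x = 0) : φ = 0 := by
  haveI : Epi (kernel.ι φ) :=
    epi_of_secMap_surjective _ fun U hU x => exists_sec_of_kernel φ U x (h U hU x)
  rw [← cancel_epi (kernel.ι φ), kernel.condition, comp_zero]

/-- evaluation at a section -/
def secHom {F G : EtModW.ModP Λ X} (U : X.ProEt) (x : F.obj.obj (op U)) : (F ⟶ G) →+ G.obj.obj (op U) where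
  toFun φ := secMap φ U x
  map_zero' := rfl
  map_add' _ _ := rfl

/-- the kernel of a quotient map modulo a finitely generated ideal, on weakly contractible objects -/
theorem mem_smul_of_isQuot {J : Ideal Λ} (hJ : J.FG) {F G : EtModW.ModP Λ X} {p : F ⟶ G} (hp : ARSys.IsQuot J p)
    {U : X.ProEt} (hU : ProEtS.IsWC U) (x : F.obj.obj (op U)) (hx : secMap p U x = 0) :
    x ∈ J • (⊤ : Submodule Λ (F.obj.obj (op U) : Type (u + 1))) := by
  obtain ⟨s, b, hb⟩ := Submodule.fg_iff_exists_fin_generating_family.1 hJ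
  let β : (⨁ fun _ : Fin s => F) ⟶ F := biproduct.desc fun j => b j • 𝟙 F
  have hk : ARSys.HomKilledBy J (cokernel.π β) := by
    intro c hc
    rw [← hb] at hc
    induction hc using Submodule.span_induction with
    | mem d hd =>
      obtain ⟨j, rfl⟩ := hd
      have h1 : biproduct.ι (fun _ : Fin s => F) j ≫ β = b j • 𝟙 F := biproduct.ι_desc _ j
      rw [← Category.id_comp (cokernel.π β), ← Linear.smul_comp, ← h1, Category.assoc, cokernel.condition, comp_zero]
    | zero => rw [zero_smul]
    | add d e _ _ hd he => rw [add_smul, hd, he, add_zero]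
    | smul d e _ he => rw [smul_eq_mul, mul_smul, he, smul_zero]
  obtain ⟨ψ, hψ, -⟩ := hp.2 _ _ hk
  have h0 : secMap (cokernel.π β) U x = 0 := by rw [← hψ, secMap_comp, hx, map_zero]
  obtain ⟨y, hy⟩ := exists_sec_of_kernel (cokernel.π β) U x h0
  obtain ⟨z, hz⟩ := secMap_surjective (Abelian.factorThruImage β) hU y
  have hβ : secMap β U z = x := by
    rw [← hy, ← hz, ← secMap_comp]
    exact congrArg (fun φ => secMap φ U z) (Abelian.image.fac β).symm
  rw [← hβ, show secMap β U z = secHom U z β from rfl, show β = _ from biproduct.desc_eq, map_sum]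
  refine Submodule.sum_mem _ fun j _ => ?_
  change secMap (biproduct.π (fun _ : Fin s => F) j ≫ (b j • 𝟙 F)) U z ∈ _
  rw [secMap_comp, secMap_smul_id]
  exact Submodule.smul_mem_smul (hb ▸ Ideal.subset_span ⟨j, rfl⟩) trivial

variable {I : Ideal Λ} {Q : ℕᵒᵖ ⥤ EtModW.ModP Λ X} [HasLimit Q]

theorem isStrict_of_isAdic (hQ : ARSys.IsAdic I Q) : ARSys.IsStrict Q :=
  fun n m h => ⟨fun _ _ e => EtTrivGen.IsQuot.hom_ext (hQ.2 n m h) e⟩

theorem secπ_eq_zero_imp (hI : I.FG) (hQ : ARSys.IsAdic I Q) {U : X.ProEt} (hU : ProEtS.IsWC U) {n : ℕ}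
    {x : (limit Q).obj.obj (op U)} (hx : secπ Q U n x = 0) :
    x ∈ I ^ (n + 1) • (⊤ : Submodule Λ ((limit Q).obj.obj (op U) : Type (u + 1))) :=
  mem_pow_of_pi_eq_zero (fun k => secπ Q U k) (fun k => secMap (ARSys.tr Q (Nat.le_succ k)) U) hI
    (fun k b hb y => by rw [← secMap_smul_id b U y, hQ.1 k b hb]; rfl)
    (fun k y => secπ_tr Q U _ y)
    (fun k y hy => by
      have h1 := mem_smul_of_isQuot (Ideal.FG.pow (n := k + 1) hI) (hQ.2 k (k + 1) (Nat.le_succ k)) hU y hy
      exact h1)
    (fun k => secπ_surjective Q (isStrict_of_isAdic hQ) hU k)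
    (fun y => sec_ext Q U y) (fun y => exists_family Q U y) hx

/-- the limit modulo a power of the ideal -/
theorem isQuot_limit_π (hI : I.FG) (hQ : ARSys.IsAdic I Q) (n : ℕ) :
    ARSys.IsQuot (I ^ (n + 1)) (limit.π Q (op n)) := by
  haveI := epi_limit_π Q (isStrict_of_isAdic hQ) n
  refine ⟨hQ.1 n, fun Y φ hφ => ?_⟩
  have hk : kernel.ι (limit.π Q (op n)) ≫ φ = 0 := eq_zero_of_secMap _ fun U hU y => by
    rw [secMap_comp]
    have hy : secπ Q U n (secMap (kernel.ι (limit.π Q (op n))) U y) = 0 := by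
      change secMap _ U (secMap _ U y) = 0
      rw [← secMap_comp, kernel.condition]
      rfl
    have hm := secπ_eq_zero_imp hI hQ hU hy
    refine Submodule.smul_induction_on hm (fun b hb v _ => ?_) (fun v w hv hw => ?_)
    · rw [map_smul]
      exact congrArg (fun ψ => secMap ψ U v) (hφ b hb)
    · rw [map_add, hv, hw, add_zero]
  exact ⟨Abelian.epiDesc (limit.π Q (op n)) φ hk, Abelian.comp_epiDesc _ _ _,
    fun ψ hψ => (cancel_epi (limit.π Q (op n))).1 (hψ.trans (Abelian.comp_epiDesc _ _ _).symm)⟩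

end Groth.Agent.ProEtLim
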