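import Mathlib

/-!
Compatible families in a strict adic sequence of modules: the kernel of a projection.
-/

set_option autoImplicit false

universe v w

namespace Groth.Agent.ProEtLim

variable {A : Type v} [CommRing A] {I : Ideal A} {M : ℕ → Type w} [∀ n, AddCommGroup (M n)] [∀ n, Module A (M n)]
  {L : Type w} [AddCommGroup L] [Module A L] (π : ∀ n, L →ₗ[A] M n) (f : ∀ n, M (n + 1) →ₗ[A] M n)

theorem pi_eq_zero_of_mem (hkill : ∀ n, ∀ b ∈ I ^ (n + 1), ∀ y : M n, b • y = 0) {n : ℕ} {x : L}
    (hx : x ∈ I ^ (n + 1) • (⊤ : Submodule A L)) : π n x = 0 := by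
  induction hx using Submodule.smul_induction_on' with
  | smul b hb y _ => rw [map_smul, hkill n b hb]
  | add y _ y' _ h h' => rw [map_add, h, h', add_zero]

theorem mem_smul_sum {s : ℕ} (b : Fin s → A) (K : Submodule A L) {x : L}
    (hx : x ∈ Ideal.span (Set.range b) • K) : ∃ y : Fin s → L, (∀ i, y i ∈ K) ∧ ∑ i, b i • y i = x := by
  induction hx using Submodule.smul_induction_on' with
  | smul c hc z hz =>
    obtain ⟨d, rfl⟩ := (Submodule.mem_span_range_iff_exists_fun A).1 hc
    exact ⟨fun i => d i • z, fun i => K.smul_mem _ hz, by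
      rw [Finset.sum_smul]
      exact Finset.sum_congr rfl fun i _ => by rw [smul_smul, smul_eq_mul, mul_comm]⟩
  | add y _ y' _ h h' =>
    obtain ⟨u, hu, rfl⟩ := h
    obtain ⟨u', hu', rfl⟩ := h'
    exact ⟨u + u', fun i => K.add_mem (hu i) (hu' i), by simp [smul_add, Finset.sum_add_distrib]⟩

/-- the kernel of a projection is the power of the ideal times the limit -/
theorem mem_pow_of_pi_eq_zero (hI : I.FG)
    (hkill : ∀ n, ∀ b ∈ I ^ (n + 1), ∀ y : M n, b • y = 0)
    (hπ : ∀ n x, f n (π (n + 1) x) = π n x)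
    (hker : ∀ n (y : M (n + 1)), f n y = 0 → y ∈ I ^ (n + 1) • (⊤ : Submodule A (M (n + 1))))
    (hsurj : ∀ n, Function.Surjective (π n))
    (hinj : ∀ x : L, (∀ n, π n x = 0) → x = 0)
    (hlift : ∀ y : (∀ n, M n), (∀ n, f n (y (n + 1)) = y n) → ∃ x : L, ∀ n, π n x = y n)
    {n : ℕ} {x : L} (hx : π n x = 0) : x ∈ I ^ (n + 1) • (⊤ : Submodule A L) := by
  obtain ⟨s, b, hb⟩ := Submodule.fg_iff_exists_fin_generating_family.1 (Ideal.FG.pow (n := n + 1) hI)
  have key : ∀ (k : ℕ) (z : L), π (n + k) z = 0 →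
      ∃ y : Fin s → L, (∀ i, y i ∈ I ^ k • (⊤ : Submodule A L)) ∧ π (n + k + 1) (z - ∑ i, b i • y i) = 0 := by
    intro k z hz
    have h1 := hker (n + k) (π (n + k + 1) z) (by rw [hπ, hz])
    have h2 : I ^ (n + k + 1) • (⊤ : Submodule A (M (n + k + 1))) =
        Submodule.map (π (n + k + 1)) (I ^ (n + k + 1) • (⊤ : Submodule A L)) := by
      rw [Submodule.map_smul'', Submodule.map_top, LinearMap.range_eq_top.2 (hsurj _)]
    rw [h2] at h1
    obtain ⟨w, hw, hwz⟩ := h1
    rw [show n + k + 1 = (n + 1) + k by omega, pow_add, Submodule.mul_smul, ← hb] at hw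
    obtain ⟨y, hy, hyw⟩ := mem_smul_sum b _ hw
    refine ⟨y, hy, ?_⟩
    rw [map_sub, hyw, ← hwz, sub_self]
  choose! Y hY1 hY2 using key
  let z : ℕ → L := fun k => Nat.rec x (fun j zj => zj - ∑ i, b i • Y j zj i) k
  have hz : ∀ k, π (n + k) (z k) = 0 := by
    intro k
    induction k with
    | zero => exact hx
    | succ k ih => exact hY2 k (z k) ih
  let S : ℕ → Fin s → L := fun N i => ∑ k ∈ Finset.range N, Y k (z k) i
  have hS : ∀ N, x - z N = ∑ i, b i • S N i := by
    intro N
    induction N with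
    | zero => simp [z, S]
    | succ N ih =>
      have hzs : z (N + 1) = z N - ∑ i, b i • Y N (z N) i := rfl
      simp only [S, Finset.sum_range_succ, smul_add, Finset.sum_add_distrib, hzs]
      rw [← ih]
      abel
  have hc : ∀ i m, f m (π (m + 1) (S (m + 1 + 1) i)) = π m (S (m + 1) i) := by
    intro i m
    rw [hπ]
    change π m (∑ k ∈ Finset.range (m + 1 + 1), Y k (z k) i) = _
    rw [Finset.sum_range_succ, map_add, pi_eq_zero_of_mem π hkill (hY1 (m + 1) _ (hz (m + 1)) i), add_zero]
  choose u hu using fun i => hlift (fun m => π m (S (m + 1) i)) (hc i)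
  have htot : x = ∑ i, b i • u i := by
    rw [← sub_eq_zero]
    refine hinj _ fun m => ?_
    rw [map_sub, map_sum, sub_eq_zero]
    have h1 : π m (x - z (m + 1)) = ∑ i, b i • π m (S (m + 1) i) := by
      refine (congrArg (π m) (hS (m + 1))).trans ?_
      rw [map_sum]
      simp only [map_smul]
    have h2 : π m (z (m + 1)) = 0 := by
      have hle : ∀ a c, a ≤ c → ∀ v, π c v = 0 → π a v = 0 := by
        intro a c hac v hv
        induction c, hac using Nat.le_induction with
        | base => exact hv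
        | succ c _ ih => exact ih (by rw [← hπ, hv, map_zero])
      exact hle m (n + (m + 1)) (by omega) _ (hz (m + 1))
    rw [map_sub, h2, sub_zero] at h1
    rw [h1]
    exact Finset.sum_congr rfl fun i _ => by rw [map_smul, hu]
  rw [htot]
  exact Submodule.sum_mem _ fun i _ => Submodule.smul_mem_smul (hb ▸ Ideal.subset_span ⟨i, rfl⟩) trivial

end Groth.Agent.ProEtLim
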