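import Groth.Agent.ProEtLim.Exact
import Groth.Agent.EtTrivGen.AdicCons
import Groth.Agent.ARLib.Frac

/-!
Kernels, cokernels and chains of adic pro-etale sheaves of modules.
-/

set_option autoImplicit false
set_option backward.isDefEq.respectTransparency false
set_option backward.isDefEq.respectTransparency.types false
set_option linter.style.haveILetI false
set_option linter.unusedSectionVars false
set_option maxHeartbeats 1000000
set_option synthInstance.maxHeartbeats 200000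

universe u v w z

open CategoryTheory CategoryTheory.Limits AlgebraicGeometry Opposite

noncomputable section

namespace Groth.Agent.ProEtLim

theorem isARNull_of_isZero_zero {C : Type w} [Category.{v} C] [Abelian C] {A : Type z} [CommRing A] [Linear A C]
    {I : Ideal A} {Y : ARSys.PS C} (hY : ARSys.IsAdic I Y) (h0 : IsZero (Y.obj (op 0))) :
    ARSys.IsARNull Y := by
  refine ⟨0, fun n => ?_⟩
  have h1 : ∀ (k : ℕ) (Z : C) (φ : Y.obj (op n) ⟶ Z), ARSys.HomKilledBy (I ^ k) φ → φ = 0 := by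
    intro k
    induction k with
    | zero =>
      intro Z φ h
      rw [← one_smul A φ]
      exact h 1 (by rw [pow_zero, Ideal.one_eq_top]; trivial)
    | succ k ih =>
      intro Z φ h
      refine ih Z φ fun c hc => ?_
      have hk : ARSys.HomKilledBy (I ^ (0 + 1)) (c • φ) := fun d hd => by
        rw [smul_smul]
        refine h _ ?_
        rw [pow_succ']
        rw [zero_add, pow_one] at hd
        exact Ideal.mul_mem_mul hd hc
      obtain ⟨ψ, hψ, -⟩ := (hY.2 0 n (Nat.zero_le n)).2 Z _ hk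
      rw [← hψ, h0.eq_zero_of_src ψ, comp_zero]
  have hid : 𝟙 (Y.obj (op n)) = 0 := h1 (n + 1) _ _ (hY.1 n)
  change ARSys.shiftMap Y 0 n = 0
  rw [← Category.comp_id (ARSys.shiftMap Y 0 n), hid, comp_zero]

variable {Λ : Type (u + 1)} [CommRing Λ] {X : Scheme.{u}} [ProEtS.EpsCont X]

/-- systems to limits -/
abbrev Tlim : ARSys.PS (EtModW.Mod Λ X) ⥤ EtModW.ModP Λ X :=
  (Functor.whiskeringRight ℕᵒᵖ (EtModW.Mod Λ X) (EtModW.ModP Λ X)).obj (EtModW.epsPullMod Λ X) ⋙ lim

theorem preservesFiniteLimits_Tlim : PreservesFiniteLimits (Tlim (Λ := Λ) (X := X)) := by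
  haveI := preservesFiniteLimits_epsPullMod (Λ := Λ) (X := X)
  haveI : PreservesFiniteLimits
      ((Functor.whiskeringRight ℕᵒᵖ (EtModW.Mod Λ X) (EtModW.ModP Λ X)).obj (EtModW.epsPullMod Λ X)) :=
    ⟨fun J _ _ => ⟨fun {K} => preservesLimit_of_evaluation _ _ fun j =>
      inferInstanceAs (PreservesLimit K ((evaluation ℕᵒᵖ (EtModW.Mod Λ X)).obj j ⋙ EtModW.epsPullMod Λ X))⟩⟩
  haveI : (lim : (ℕᵒᵖ ⥤ EtModW.ModP Λ X) ⥤ _).IsRightAdjoint := constLimAdj.isRightAdjoint
  haveI : PreservesFiniteLimits (lim : (ℕᵒᵖ ⥤ EtModW.ModP Λ X) ⥤ _) := PreservesLimits.preservesFiniteLimits _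
  exact comp_preservesFiniteLimits _ _

theorem isIso_Tlim_map {G G' : ARSys.PS (EtModW.Mod Λ X)} (v : G ⟶ G') (hv : ARSys.IsARIso v) :
    IsIso (Tlim.map v) := by
  haveI := preservesFiniteLimits_epsPullMod (Λ := Λ) (X := X)
  haveI := preservesFiniteColimits_epsPullMod (Λ := Λ) (X := X)
  exact ARLib.isIso_limMap (Functor.whiskerRight v (EtModW.epsPullMod Λ X)) (EtTrivGen.isARIso_map v hv)

theorem epi_Tlim_map (S : ShortComplex (ARSys.PS (EtModW.Mod Λ X))) (hS : S.ShortExact)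
    (hA : ARSys.IsMLAR S.X₁) : Epi (Tlim.map S.g) := epi_limMap_eps S hS hA

theorem preservesZeroMorphisms_Tlim : (Tlim (Λ := Λ) (X := X)).PreservesZeroMorphisms := by
  haveI := preservesFiniteLimits_Tlim (Λ := Λ) (X := X)
  haveI := Functor.additive_of_preserves_binary_products (Tlim (Λ := Λ) (X := X))
  infer_instance

variable {I : Ideal Λ}

/-- an adic system with zero limit is null -/
theorem isARNull_of_isZero_Tlim {Y : ARSys.PS (EtModW.Mod Λ X)} (hY : ARSys.IsAdic I Y)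
    (h : IsZero (Tlim.obj Y)) : ARSys.IsARNull Y := by
  haveI := (EtTrivGen.epsAdjMod Λ X).fullyFaithfulLOfIsIsoUnit.faithful
  haveI : (EtModW.epsPullMod Λ X).Additive := (EtTrivGen.epsAdjMod Λ X).left_adjoint_additive
  refine isARNull_of_isZero_zero hY ((IsZero.iff_id_eq_zero _).2 ((EtModW.epsPullMod Λ X).map_injective ?_))
  haveI := epi_limit_π (epsSys Y) (isStrict_of_isAdic (isAdic_epsSys hY)) 0
  rw [CategoryTheory.Functor.map_id, Functor.map_zero, ← cancel_epi (limit.π (epsSys Y) (op 0))]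
  exact h.eq_of_src _ _

variable [IsNoetherianRing Λ] [IsNoetherian X]

theorem exists_kernel_adic {G₁ G₂ : ARSys.PS (EtModW.Mod Λ X)} (h₁ : ARSys.IsAdic I G₁) (h₂ : ARSys.IsAdic I G₂)
    (c₁ : ∀ n : ℕ, EtModW.IsConstructible Λ (G₁.obj (op n))) (c₂ : ∀ n : ℕ, EtModW.IsConstructible Λ (G₂.obj (op n)))
    (w : G₁ ⟶ G₂) :
    ∃ Y : ARSys.PS (EtModW.Mod Λ X), ARSys.IsAdic I Y ∧ (∀ n : ℕ, EtModW.IsConstructible Λ (Y.obj (op n))) ∧
      Nonempty (Tlim.obj Y ≅ kernel (Tlim.map w)) := by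
  haveI := preservesFiniteLimits_Tlim (Λ := Λ) (X := X)
  haveI := preservesZeroMorphisms_Tlim (Λ := Λ) (X := X)
  obtain ⟨⟨-, Y, v, hY, hYc, hv⟩, -⟩ := EtTrivGen.isARAdic_kernel_cokernel h₁ h₂ c₁ c₂ w
  haveI := isIso_Tlim_map v hv
  exact ⟨Y, hY, hYc, ⟨asIso (Tlim.map v) ≪≫ PreservesKernel.iso Tlim w⟩⟩

theorem exists_cokernel_adic {G₁ G₂ : ARSys.PS (EtModW.Mod Λ X)} (h₁ : ARSys.IsAdic I G₁) (h₂ : ARSys.IsAdic I G₂)
    (c₁ : ∀ n : ℕ, EtModW.IsConstructible Λ (G₁.obj (op n))) (c₂ : ∀ n : ℕ, EtModW.IsConstructible Λ (G₂.obj (op n)))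
    (w : G₁ ⟶ G₂) :
    ∃ Y : ARSys.PS (EtModW.Mod Λ X), ARSys.IsAdic I Y ∧ (∀ n : ℕ, EtModW.IsConstructible Λ (Y.obj (op n))) ∧
      Nonempty (Tlim.obj Y ≅ cokernel (Tlim.map w)) := by
  haveI := preservesFiniteLimits_Tlim (Λ := Λ) (X := X)
  haveI := preservesZeroMorphisms_Tlim (Λ := Λ) (X := X)
  have hstr : ARSys.IsStrict G₁ := fun n m h => ⟨fun _ _ e => EtTrivGen.IsQuot.hom_ext (h₁.2 n m h) e⟩
  let S : ShortComplex (ARSys.PS (EtModW.Mod Λ X)) :=
    ShortComplex.mk (Abelian.image.ι w) (cokernel.π w) (kernel.condition _)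
  have hS : S.ShortExact := ShortComplex.ShortExact.mk'
    (ShortComplex.exact_of_f_is_kernel _ (kernelIsKernel (cokernel.π w))) inferInstance inferInstance
  let S' : ShortComplex (ARSys.PS (EtModW.Mod Λ X)) :=
    ShortComplex.mk (kernel.ι w) (Abelian.factorThruImage w) (by
      rw [← cancel_mono (Abelian.image.ι w), Category.assoc, Abelian.image.fac, kernel.condition, zero_comp])
  have hS' : S'.ShortExact := ShortComplex.ShortExact.mk' (ShortComplex.exact_of_f_is_kernel _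
      (KernelFork.IsLimit.ofι' (kernel.ι w) S'.zero fun {A} x hx => ⟨kernel.lift w x (by
        rw [← Abelian.image.fac w, ← Category.assoc, show x ≫ Abelian.factorThruImage w = 0 from hx, zero_comp]),
        kernel.lift_ι _ _ _⟩)) (inferInstanceAs (Mono (kernel.ι w))) (inferInstanceAs (Epi (Abelian.factorThruImage w)))
  haveI : Epi (Tlim.map (cokernel.π w)) :=
    epi_Tlim_map S hS ((ARLib.isMLAR_iff _).2 ⟨0, ARLib.mlb_of_strict (ARLib.isStrict_image w hstr)⟩)
  obtain ⟨⟨hk, Yk, vk, hYk, -, hvk⟩, -⟩ := EtTrivGen.isARAdic_kernel_cokernel h₁ h₂ c₁ c₂ w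
  haveI : Epi (Tlim.map (Abelian.factorThruImage w)) :=
    epi_Tlim_map S' hS' (ARLib.isMLAR_of_isARAdic (J := I) ⟨hk, Yk, vk, hYk, hvk⟩)
  haveI := hS.mono_f
  have hT : (S.map Tlim).ShortExact := ShortComplex.ShortExact.mk'
    (ShortComplex.exact_of_f_is_kernel _ (KernelFork.mapIsLimit _ hS.fIsKernel Tlim))
    (inferInstanceAs (Mono (Tlim.map (Abelian.image.ι w)))) (inferInstanceAs (Epi (Tlim.map (cokernel.π w))))
  have e : Tlim.map w = Tlim.map (Abelian.factorThruImage w) ≫ (S.map Tlim).f := by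
    change Tlim.map w = Tlim.map (Abelian.factorThruImage w) ≫ Tlim.map (Abelian.image.ι w)
    rw [← Functor.map_comp, Abelian.image.fac]
  refine ⟨cokernel w, ARLib.isAdic_cokernel w hstr h₂, fun n => ?_,
    ⟨(isCokernelEpiComp hT.gIsCokernel (Tlim.map (Abelian.factorThruImage w)) e).coconePointUniqueUpToIso
      (colimit.isColimit _)⟩⟩
  haveI : PreservesFiniteColimits ((evaluation ℕᵒᵖ (EtModW.Mod Λ X)).obj (op n)) := ⟨fun J _ _ => inferInstance⟩
  exact EtTrivGen.IsConstructible.ofIso (PreservesCokernel.iso ((evaluation ℕᵒᵖ (EtModW.Mod Λ X)).obj (op n)) w).symm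
    (EtTrivGen.isConstructible_kernel_cokernel (w.app (op n)) (c₁ n) (c₂ n)).2

/-- chains of adic subsheaves are stationary -/
theorem exists_eventually_eq {F : EtModW.ModP Λ X} {G₀ : ARSys.PS (EtModW.Mod Λ X)} (h₀ : ARSys.IsAdic I G₀)
    (c₀ : ∀ n : ℕ, EtModW.IsConstructible Λ (G₀.obj (op n))) (e₀ : Tlim.obj G₀ ≅ F) (Z : ℕ →o Subobject F)
    (hZ : ∀ k : ℕ, ∃ G : ARSys.PS (EtModW.Mod Λ X), ARSys.IsAdic I G ∧
      (∀ n : ℕ, EtModW.IsConstructible Λ (G.obj (op n))) ∧ Nonempty (Tlim.obj G ≅ (Z k : EtModW.ModP Λ X))) :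
    ∃ k₀ : ℕ, ∀ k : ℕ, k₀ ≤ k → Z k = Z k₀ := by
  have hI : I.FG := IsNoetherian.noetherian I
  choose G hG hc he using hZ
  choose u hu using fun k => exists_map_of_hom hI (hG k) h₀ ((he k).some.hom ≫ (Z k).arrow ≫ e₀.inv)
  choose m hm using fun k => exists_map_of_hom hI (hG k) (hG (k + 1))
    ((he k).some.hom ≫ Subobject.ofLE _ _ (Z.monotone (Nat.le_succ k)) ≫ (he (k + 1)).some.inv)
  have hu' : ∀ k, Tlim.map (u k) = (he k).some.hom ≫ (Z k).arrow ≫ e₀.inv := hu
  have hm' : ∀ k, Tlim.map (m k) =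
      (he k).some.hom ≫ Subobject.ofLE _ _ (Z.monotone (Nat.le_succ k)) ≫ (he (k + 1)).some.inv := hm
  have hmu : ∀ k, m k ≫ u (k + 1) = u k := fun k => hom_eq_of_limMap_eq (hG k) (by
    change Tlim.map (m k ≫ u (k + 1)) = Tlim.map (u k)
    rw [Functor.map_comp, hm', hu', hu']
    simp)
  haveI := preservesFiniteLimits_Tlim (Λ := Λ) (X := X)
  haveI := preservesZeroMorphisms_Tlim (Λ := Λ) (X := X)
  have hnull : ∀ k, ARSys.IsARNull (kernel (u k)) := by
    intro k
    obtain ⟨⟨-, Y, v, hY, -, hv⟩, -⟩ := EtTrivGen.isARAdic_kernel_cokernel (hG k) h₀ (hc k) c₀ (u k)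
    haveI := isIso_Tlim_map v hv
    haveI : Mono (Tlim.map (u k)) := by rw [hu' k]; infer_instance
    have hz : IsZero (Tlim.obj Y) :=
      (isZero_kernel_of_mono (Tlim.map (u k))).of_iso (asIso (Tlim.map v) ≪≫ PreservesKernel.iso Tlim (u k))
    obtain ⟨r, hr⟩ := isARNull_of_isZero_Tlim hY hz
    obtain ⟨t, c, hct⟩ := ARLib.exists_inv hv
    refine (ARLib.isARNull_iff _).2 ⟨r + t, fun n l h => ?_⟩
    have h1 : ARSys.tr (kernel (u k)) (show n + r ≤ l by omega) = c.app (n + r) l (by omega) ≫ v.app (op (n + r)) :=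
      (hct.vu (n + r) l (by omega)).symm
    rw [← ARLib.tr_tr _ (Nat.le_add_right n r) (show n + r ≤ l by omega), h1, Category.assoc, ← ARLib.tr_nat]
    rw [show ARSys.tr Y (Nat.le_add_right n r) = 0 from hr n, zero_comp, comp_zero]
  let f : ∀ k, G k ⟶ (imageSubobject (u k) : ARSys.PS (EtModW.Mod Λ X)) := fun k => factorThruImageSubobject (u k)
  have hf : ∀ k, ARSys.IsARIso (f k) := fun k => by
    refine ⟨?_, ⟨0, fun n => ?_⟩⟩
    · exact EtTrivGen.isARNull_of_iso
        (kernelIsoOfEq (imageSubobject_arrow_comp (u k)).symm ≪≫ kernelCompMono (f k) _) (hnull k)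
    · exact ((Limits.isZero_cokernel_of_epi (f k)).obj _).eq_of_src _ _
  let W : ℕ →o Subobject G₀ := ⟨fun k => imageSubobject (u k), monotone_nat_of_le_succ fun k => by
    rw [← hmu k]
    exact imageSubobject_comp_le _ _⟩
  haveI := EtTrivGen.isNoetherianObject_of_isConstructible (c₀ 0)
  obtain ⟨k₀, hk₀⟩ := EtTrivGen.chain_eventually_isARIso h₀ W fun k =>
    ⟨ARLib.termKilled_of_mono (imageSubobject (u k)).arrow h₀.1, G k, f k, hG k, hf k⟩
  have hstep : ∀ k, k₀ ≤ k → Z k = Z (k + 1) := fun k hk => by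
    let i := Subobject.ofLE (W k) (W (k + 1)) (W.monotone (Nat.le_succ k))
    haveI h1 := isIso_Tlim_map (f k) (hf k)
    haveI h2 := isIso_Tlim_map (f (k + 1)) (hf (k + 1))
    haveI h3 := isIso_Tlim_map i (hk₀ k hk)
    have e1 : f k ≫ i = m k ≫ f (k + 1) := by
      rw [← cancel_mono (imageSubobject (u (k + 1))).arrow, Category.assoc, Category.assoc,
        imageSubobject_arrow_comp, hmu]
      exact (congrArg (f k ≫ ·) (Subobject.ofLE_arrow _)).trans (imageSubobject_arrow_comp (u k))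
    haveI h4 : IsIso (Tlim.map (m k)) := by
      have e2 : Tlim.map (m k) ≫ Tlim.map (f (k + 1)) = Tlim.map (f k) ≫ Tlim.map i := by
        rw [← Functor.map_comp, ← e1, Functor.map_comp]
      exact IsIso.of_isIso_fac_right e2
    have e3 : (he k).some.inv ≫ Tlim.map (m k) ≫ (he (k + 1)).some.hom =
        Subobject.ofLE _ _ (Z.monotone (Nat.le_succ k)) := by
      rw [hm']
      simp
    haveI : IsIso (Subobject.ofLE _ _ (Z.monotone (Nat.le_succ k))) := e3 ▸ inferInstance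
    exact Subobject.eq_of_comm (asIso (Subobject.ofLE _ _ (Z.monotone (Nat.le_succ k)))) (Subobject.ofLE_arrow _)
  refine ⟨k₀, fun k hk => ?_⟩
  induction k, hk using Nat.le_induction with
  | base => rfl
  | succ k hk ih => exact (hstep k hk).symm.trans ih

end Groth.Agent.ProEtLim
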