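import Groth.Agent.ProEtLim.Adic
import Groth.Agent.EtTrivGen.EpsAdic

/-!
Adic systems of etale sheaves and their limits on the pro-etale site.
-/

set_option autoImplicit false
set_option backward.isDefEq.respectTransparency false
set_option backward.isDefEq.respectTransparency.types false
set_option linter.style.haveILetI false
set_option linter.unusedSectionVars false
set_option maxHeartbeats 1000000
set_option synthInstance.maxHeartbeats 200000

universe u

open CategoryTheory CategoryTheory.Limits AlgebraicGeometry Opposite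

noncomputable section

namespace Groth.Agent.ProEtLim

open EtTrivGen (epsPushMod epsAdjMod)

variable {Λ : Type (u + 1)} [CommRing Λ] {X : Scheme.{u}} [ProEtS.EpsCont X] {I : Ideal Λ}

/-- the pulled back system -/
abbrev epsSys (G : ARSys.PS (EtModW.Mod Λ X)) : ℕᵒᵖ ⥤ EtModW.ModP Λ X := G ⋙ EtModW.epsPullMod Λ X

theorem isAdic_epsSys {G : ARSys.PS (EtModW.Mod Λ X)} (hG : ARSys.IsAdic I G) : ARSys.IsAdic I (epsSys G) :=
  EtTrivGen.isAdic_map (epsAdjMod Λ X) hG

/-- the limit of the pulled back system -/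
abbrev adicLim (G : ARSys.PS (EtModW.Mod Λ X)) : EtModW.ModP Λ X := limit (epsSys G)

theorem exists_tower_iff (hI : I.FG) (F : EtModW.ModP Λ X) :
    (∃ (Q : ℕᵒᵖ ⥤ EtModW.ModP Λ X) (p : (Functor.const ℕᵒᵖ).obj F ⟶ Q),
        (∀ n : ℕ, ARSys.IsQuot (I ^ (n + 1)) (p.app (op n))) ∧
        (∀ n : ℕ, ∃ E : EtModW.Mod Λ X, EtModW.IsConstructible Λ E ∧
          Nonempty ((EtModW.epsPullMod Λ X).obj E ≅ Q.obj (op n))) ∧
        IsIso (limit.lift Q (Cone.mk F p))) ↔
      ∃ G : ARSys.PS (EtModW.Mod Λ X), ARSys.IsAdic I G ∧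
        (∀ n : ℕ, EtModW.IsConstructible Λ (G.obj (op n))) ∧
        Nonempty (limit (G ⋙ EtModW.epsPullMod Λ X) ≅ F) := by
  constructor
  · rintro ⟨Q, p, hQ, hc, hlim⟩
    let P : ObjectProperty (EtModW.Mod Λ X) := fun E => EtModW.IsConstructible Λ E
    haveI : P.IsClosedUnderIsomorphisms := ⟨fun i h => EtTrivGen.IsConstructible.ofIso i h⟩
    obtain ⟨G, hG, hGc, ⟨e⟩⟩ :=
      EtTrivGen.exists_adic_preimage (epsAdjMod Λ X) P (EtTrivGen.isAdic_of_quotTower p hQ) hc
    haveI := hlim
    exact ⟨G, hG, hGc, ⟨HasLimit.isoOfNatIso e ≪≫ (asIso (limit.lift Q (Cone.mk F p))).symm⟩⟩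
  · rintro ⟨G, hG, hc, ⟨e⟩⟩
    let p : (Functor.const ℕᵒᵖ).obj F ⟶ epsSys G :=
      (Functor.const ℕᵒᵖ).map e.inv ≫ (limit.cone (epsSys G)).π
    refine ⟨epsSys G, p, fun n => ?_, fun n => ⟨G.obj (op n), hc n, ⟨Iso.refl _⟩⟩, ?_⟩
    · refine EtTrivGen.isQuot_congr e.symm (Iso.refl _) ?_ (isQuot_limit_π hI (isAdic_epsSys hG) n)
      exact Category.comp_id _
    · have h : limit.lift (epsSys G) (Cone.mk F p) = e.inv := limit.hom_ext fun n => by
        rw [limit.lift_π]
        rfl
      rw [h]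
      infer_instance

/-- maps of limits come from maps of systems -/
theorem exists_map_of_hom (hI : I.FG) {G G' : ARSys.PS (EtModW.Mod Λ X)} (hG : ARSys.IsAdic I G)
    (hG' : ARSys.IsAdic I G') (f : adicLim G ⟶ adicLim G') :
    ∃ w : G ⟶ G', limMap (Functor.whiskerRight w (EtModW.epsPullMod Λ X)) = f := by
  let hff := (epsAdjMod Λ X).fullyFaithfulLOfIsIsoUnit
  haveI := hff.full; haveI := hff.faithful
  have hk : ∀ n : ℕ, ARSys.HomKilledBy (I ^ (n + 1)) (f ≫ limit.π (epsSys G') (op n)) := fun n a ha => by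
    rw [← Category.comp_id (f ≫ limit.π (epsSys G') (op n)), ← Linear.comp_smul,
      (isAdic_epsSys hG').1 n a ha, comp_zero]
  choose t ht htu using fun n : ℕ => (isQuot_limit_π hI (isAdic_epsSys hG) n).2 _ _ (hk n)
  choose w hw using fun n : ℕ => (EtModW.epsPullMod Λ X).map_surjective (t n)
  let W : G ⟶ G' :=
    { app := fun n => w n.unop
      naturality := fun a b g => (EtModW.epsPullMod Λ X).map_injective (by
        haveI := epi_limit_π (epsSys G) (isStrict_of_isAdic (isAdic_epsSys hG)) a.unop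
        rw [Functor.map_comp, Functor.map_comp, hw, hw, ← cancel_epi (limit.π (epsSys G) (op a.unop)),
          ← Category.assoc, ← Category.assoc]
        have h1 : limit.π (epsSys G) (op a.unop) ≫ (EtModW.epsPullMod Λ X).map (G.map g) =
            limit.π (epsSys G) (op b.unop) := limit.w (epsSys G) g
        have h2 : limit.π (epsSys G') (op a.unop) ≫ (EtModW.epsPullMod Λ X).map (G'.map g) =
            limit.π (epsSys G') (op b.unop) := limit.w (epsSys G') g
        rw [h1, ht b.unop, ht a.unop, Category.assoc, h2]) }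
  refine ⟨W, limit.hom_ext fun n => ?_⟩
  rw [limMap_π]
  change _ ≫ (EtModW.epsPullMod Λ X).map (w n.unop) = _
  rw [hw]
  exact ht n.unop

theorem hom_eq_of_limMap_eq {G G' : ARSys.PS (EtModW.Mod Λ X)} (hG : ARSys.IsAdic I G) {w w' : G ⟶ G'}
    (h : limMap (Functor.whiskerRight w (EtModW.epsPullMod Λ X)) =
      limMap (Functor.whiskerRight w' (EtModW.epsPullMod Λ X))) : w = w' := by
  let hff := (epsAdjMod Λ X).fullyFaithfulLOfIsIsoUnit
  haveI := hff.faithful
  refine NatTrans.ext (funext fun n => (EtModW.epsPullMod Λ X).map_injective ?_)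
  haveI := epi_limit_π (epsSys G) (isStrict_of_isAdic (isAdic_epsSys hG)) n.unop
  have h1 := congrArg (· ≫ limit.π (epsSys G') (op n.unop)) h
  simp only [limMap_π] at h1
  exact (cancel_epi (limit.π (epsSys G) (op n.unop))).1 h1

end Groth.Agent.ProEtLim
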