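import Groth.Agent.ProEtLim.Equiv
import Groth.Agent.ARLib.Ext

/-!
Exactness of the limit over the pro-etale site.
-/

set_option autoImplicit false
set_option backward.isDefEq.respectTransparency false
set_option backward.isDefEq.respectTransparency.types false
set_option linter.style.haveILetI false
set_option linter.unusedSectionVars false
set_option maxHeartbeats 1000000
set_option synthInstance.maxHeartbeats 200000

universe u

open CategoryTheory CategoryTheory.Limits AlgebraicGeometry Opposite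

noncomputable section

namespace Groth.Agent.ProEtLim

variable {Λ : Type (u + 1)} [CommRing Λ] {X : Scheme.{u}}

theorem exists_sec_of_shortExact {S : ShortComplex (EtModW.ModP Λ X)} (hS : S.ShortExact) (U : X.ProEt)
    (x : S.X₂.obj.obj (op U)) (hx : secMap S.g U x = 0) : ∃ y, secMap S.f U y = x := by
  obtain ⟨y, rfl⟩ := exists_sec_of_kernel S.g U x hx
  obtain ⟨l, hl⟩ := KernelFork.IsLimit.lift' hS.fIsKernel (kernel.ι S.g) (kernel.condition S.g)
  refine ⟨secMap l U y, ?_⟩
  exact (secMap_comp l S.f U y).symm.trans (congrArg (fun φ => secMap φ U y) hl)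

/-- limits of short exact sequences whose first term is essentially strict -/
theorem epi_limMap {A' : ℕᵒᵖ ⥤ EtModW.ModP Λ X} (S : ShortComplex (ℕᵒᵖ ⥤ EtModW.ModP Λ X))
    (hS : ∀ n : ℕ, (S.map ((evaluation ℕᵒᵖ (EtModW.ModP Λ X)).obj (op n))).ShortExact)
    (ι : A' ⟶ S.X₁) (hA' : ARSys.IsStrict A') (r : ℕ)
    (hfac : ∀ n : ℕ, ∃ e, e ≫ ι.app (op n) = ARSys.tr S.X₁ (Nat.le_add_right n r)) :
    Epi (limMap S.g) := by
  refine epi_of_secMap_surjective _ fun U hU c => ?_
  let cs : ∀ n, (S.X₃.obj (op n)).obj.obj (op U) := fun n => secπ S.X₃ U n c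
  have hb : ∀ n, ∃ b, secMap (S.g.app (op (n + r))) U b = cs (n + r) := fun n => by
    haveI : Epi (S.g.app (op (n + r))) := (hS (n + r)).epi_g
    exact secMap_surjective _ hU _
  choose b hb using hb
  have hd : ∀ n, ∃ a, secMap (S.f.app (op (n + r))) U a =
      secMap (ARSys.tr S.X₂ (show n + r ≤ n + 1 + r by omega)) U (b (n + 1)) - b n := fun n => by
    refine exists_sec_of_shortExact (hS (n + r)) U _ ?_
    change secMap (S.g.app (op (n + r))) U _ = 0
    rw [map_sub, hb, ← secMap_comp]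
    have e : secMap (ARSys.tr S.X₂ (show n + r ≤ n + 1 + r by omega) ≫ S.g.app (op (n + r))) U (b (n + 1)) =
        secMap (S.g.app (op (n + 1 + r)) ≫ ARSys.tr S.X₃ (show n + r ≤ n + 1 + r by omega)) U (b (n + 1)) :=
      congrArg (fun φ => secMap φ U (b (n + 1))) (S.g.naturality (homOfLE (show n + r ≤ n + 1 + r by omega)).op)
    rw [e, secMap_comp, hb, sub_eq_zero]
    exact secπ_tr S.X₃ U _ c
  choose a ha using hd
  choose e he using hfac
  let v : ∀ n, (A'.obj (op n)).obj.obj (op U) := fun n => secMap (e n) U (a n)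
  have hs : ∀ m, Function.Surjective (secMap (ARSys.tr A' (Nat.le_succ m)) U) := fun m => by
    haveI := hA' m (m + 1) (Nat.le_succ m)
    exact secMap_surjective _ hU
  choose g hg using fun m => hs m
  let w : ∀ n, (A'.obj (op n)).obj.obj (op U) := fun n => Nat.rec 0 (fun m x => g m (x - v m)) n
  let β : ∀ n, (S.X₂.obj (op n)).obj.obj (op U) := fun n =>
    secMap (ARSys.tr S.X₂ (Nat.le_add_right n r)) U (b n) + secMap (S.f.app (op n)) U (secMap (ι.app (op n)) U (w n))
  have hv : ∀ n, secMap (S.f.app (op n)) U (secMap (ι.app (op n)) U (v n)) =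
      secMap (ARSys.tr S.X₂ ((Nat.le_succ n).trans (Nat.le_add_right (n + 1) r))) U (b (n + 1)) -
        secMap (ARSys.tr S.X₂ (Nat.le_add_right n r)) U (b n) := fun n => by
    simp only [v]
    rw [← secMap_comp (e n), he, ← secMap_comp (ARSys.tr S.X₁ (Nat.le_add_right n r))]
    have h1 : ARSys.tr S.X₁ (Nat.le_add_right n r) ≫ S.f.app (op n) =
        S.f.app (op (n + r)) ≫ ARSys.tr S.X₂ (Nat.le_add_right n r) := S.f.naturality _
    rw [h1, secMap_comp, ha, map_sub, ← secMap_comp, EtTrivGen.tr_tr]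
  obtain ⟨x, hx⟩ := exists_family S.X₂ U β fun n => by
    simp only [β, map_add]
    have h1 : secMap (ARSys.tr S.X₂ (Nat.le_succ n)) U (secMap (S.f.app (op (n + 1))) U
        (secMap (ι.app (op (n + 1))) U (w (n + 1)))) =
        secMap (S.f.app (op n)) U (secMap (ι.app (op n)) U (w n - v n)) := by
      rw [← secMap_comp, ← secMap_comp]
      have h2 : ι.app (op (n + 1)) ≫ S.f.app (op (n + 1)) ≫ ARSys.tr S.X₂ (Nat.le_succ n) =
          ARSys.tr A' (Nat.le_succ n) ≫ ι.app (op n) ≫ S.f.app (op n) := by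
        have e1 : S.f.app (op (n + 1)) ≫ ARSys.tr S.X₂ (Nat.le_succ n) =
            ARSys.tr S.X₁ (Nat.le_succ n) ≫ S.f.app (op n) := (S.f.naturality _).symm
        have e2 : ι.app (op (n + 1)) ≫ ARSys.tr S.X₁ (Nat.le_succ n) =
            ARSys.tr A' (Nat.le_succ n) ≫ ι.app (op n) := (ι.naturality _).symm
        rw [e1, ← Category.assoc, e2, Category.assoc]
      rw [h2, secMap_comp, secMap_comp]
      exact congrArg (fun z => secMap (S.f.app (op n)) U (secMap (ι.app (op n)) U z)) (hg n (w n - v n))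
    rw [h1, map_sub, map_sub, hv, ← secMap_comp, EtTrivGen.tr_tr]
    abel
  refine ⟨x, sub_eq_zero.1 (sec_ext S.X₃ U _ fun n => ?_)⟩
  rw [map_sub, sub_eq_zero, ← secMap_comp, limMap_π, secMap_comp, hx]
  simp only [β, map_add]
  have h3 : ∀ z, secMap (S.g.app (op n)) U (secMap (S.f.app (op n)) U z) = 0 := fun z => by
    rw [← secMap_comp, ← NatTrans.comp_app, S.zero]
    rfl
  rw [h3, add_zero, ← secMap_comp]
  have e4 : ARSys.tr S.X₂ (Nat.le_add_right n r) ≫ S.g.app (op n) =
      S.g.app (op (n + r)) ≫ ARSys.tr S.X₃ (Nat.le_add_right n r) := S.g.naturality _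
  rw [e4, secMap_comp, hb]
  exact secπ_tr S.X₃ U _ c

variable [ProEtS.EpsCont X]

theorem preservesFiniteLimits_epsPullMod : PreservesFiniteLimits (EtModW.epsPullMod Λ X) :=
  RPlusComp.ModLan.sheafPullback_preservesFiniteLimits Λ (ProEtS.eps X) _ _

theorem preservesFiniteColimits_epsPullMod : PreservesFiniteColimits (EtModW.epsPullMod Λ X) := by
  haveI := (EtTrivGen.epsAdjMod Λ X).leftAdjoint_preservesColimits
  exact PreservesColimits.preservesFiniteColimits _

/-- the limit of pulled back systems is right exact when the first system is Mittag-Leffler up to translation -/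
theorem epi_limMap_eps (S : ShortComplex (ARSys.PS (EtModW.Mod Λ X))) (hS : S.ShortExact)
    (hA : ARSys.IsMLAR S.X₁) : Epi (limMap (Functor.whiskerRight S.g (EtModW.epsPullMod Λ X))) := by
  haveI := preservesFiniteLimits_epsPullMod (Λ := Λ) (X := X)
  haveI := preservesFiniteColimits_epsPullMod (Λ := Λ) (X := X)
  obtain ⟨r, hr⟩ := (ARLib.isMLAR_iff _).1 hA
  let W := (Functor.whiskeringRight ℕᵒᵖ (EtModW.Mod Λ X) (EtModW.ModP Λ X)).obj (EtModW.epsPullMod Λ X)
  haveI : W.PreservesZeroMorphisms := ⟨fun A B => NatTrans.ext (funext fun n => (EtModW.epsPullMod Λ X).map_zero _ _)⟩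
  haveI : (EtModW.epsPullMod Λ X).Additive := (EtTrivGen.epsAdjMod Λ X).left_adjoint_additive
  refine epi_limMap (A' := ARLib.univSys hr ⋙ EtModW.epsPullMod Λ X) (S.map W)
    (fun n => ?_) (Functor.whiskerRight (ARLib.univι hr) _) (fun n m h => ?_) r fun n => ?_
  · haveI : PreservesFiniteLimits ((evaluation ℕᵒᵖ (EtModW.Mod Λ X)).obj (op n)) := ⟨fun J _ _ => inferInstance⟩
    haveI : PreservesFiniteColimits ((evaluation ℕᵒᵖ (EtModW.Mod Λ X)).obj (op n)) := ⟨fun J _ _ => inferInstance⟩
    exact (hS.map_of_exact ((evaluation ℕᵒᵖ (EtModW.Mod Λ X)).obj (op n))).map_of_exact (EtModW.epsPullMod Λ X)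
  · haveI := ARLib.isStrict_univSys hr n m h
    haveI : (EtModW.epsPullMod Λ X).PreservesEpimorphisms := inferInstance
    exact inferInstanceAs (Epi ((EtModW.epsPullMod Λ X).map (ARSys.tr (ARLib.univSys hr) h)))
  · obtain ⟨e, he⟩ := ARLib.exists_lift ((ARLib.univι hr).app (op n))
      (ARSys.tr S.X₁ (Nat.le_add_right n r)) (ARLib.rng_subι _ _ _ n).ge
    exact ⟨(EtModW.epsPullMod Λ X).map e, ((EtModW.epsPullMod Λ X).map_comp _ _).symm.trans
      (congrArg (EtModW.epsPullMod Λ X).map he)⟩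

end Groth.Agent.ProEtLim
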