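import Mathlib

/-!
Extensions of modules complete for a principal ideal.
-/

set_option autoImplicit false

universe v w

namespace Groth.Agent.ProEtLim

variable {A : Type v} [CommRing A] (a : A) {F G H : Type w} [AddCommGroup F] [Module A F] [AddCommGroup G]
  [Module A G] [AddCommGroup H] [Module A H]

/-- series converge -/
def SeriesConv (M : Type w) [AddCommGroup M] [Module A M] : Prop :=
  ∀ u : ℕ → M, ∃ U : M, ∀ N : ℕ, ∃ v : M, U - ∑ n ∈ Finset.range N, a ^ n • u n = a ^ N • v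

/-- separatedness -/
def ASep (M : Type w) [AddCommGroup M] [Module A M] : Prop :=
  ∀ x : M, (∀ k : ℕ, ∃ v : M, x = a ^ k • v) → x = 0

theorem aSep_extension {i : F →ₗ[A] G} {p : G →ₗ[A] H} (hi : Function.Injective i)
    (hex : ∀ g, p g = 0 → ∃ f, i f = g) (hF : ASep a F) (hH : ASep a H) (k₀ : ℕ)
    (htor : ∀ k, k₀ ≤ k → ∀ h : H, a ^ k • h = 0 → a ^ k₀ • h = 0) : ASep a G := by
  intro g hg
  have hp : p g = 0 := hH _ fun k => by
    obtain ⟨v, hv⟩ := hg k
    exact ⟨p v, by rw [hv, map_smul]⟩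
  obtain ⟨f, rfl⟩ := hex g hp
  rw [show f = 0 from hF f fun k => ?_, map_zero]
  obtain ⟨v, hv⟩ := hg (k + k₀)
  have h1 : a ^ k₀ • p v = 0 := htor (k + k₀) (by omega) _ (by rw [← map_smul, ← hv, hp])
  obtain ⟨f', hf'⟩ := hex (a ^ k₀ • v) (by rw [map_smul, h1])
  exact ⟨f', hi (by rw [map_smul, hf', hv, pow_add, mul_smul])⟩

theorem seriesConv_extension {i : F →ₗ[A] G} {p : G →ₗ[A] H} (hp : Function.Surjective p)
    (hex : ∀ g, p g = 0 → ∃ f, i f = g) (hF : SeriesConv a F) (hH : SeriesConv a H) (hHs : ASep a H) :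
    SeriesConv a G := by
  intro d
  choose T hT using fun n => hH fun j => p (d (n + j))
  have hrec : ∀ n, T n = p (d n) + a • T (n + 1) := fun n => by
    refine sub_eq_zero.1 (hHs _ fun k => ?_)
    obtain ⟨v, hv⟩ := hT n (k + 1)
    obtain ⟨w, hw⟩ := hT (n + 1) k
    rw [Finset.sum_range_succ'] at hv
    refine ⟨a • v - a • w, ?_⟩
    have e : ∑ j ∈ Finset.range k, a ^ (j + 1) • p (d (n + (j + 1))) =
        a • ∑ j ∈ Finset.range k, a ^ j • p (d (n + 1 + j)) := by
      rw [Finset.smul_sum]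
      exact Finset.sum_congr rfl fun j _ => by rw [smul_smul, ← pow_succ', Nat.add_assoc, Nat.add_comm 1 j]
    rw [e, pow_zero, one_smul, Nat.add_zero] at hv
    rw [sub_eq_iff_eq_add.1 hv, sub_eq_iff_eq_add.1 hw]
    simp only [smul_add, smul_sub, smul_smul, ← pow_succ, ← pow_succ']
    abel
  choose T' hT' using fun n => hp (T n)
  choose u hu using fun n => hex (T' n - d n - a • T' (n + 1)) (by
    rw [map_sub, map_sub, map_smul, hT', hT', hrec n]
    abel)
  obtain ⟨U, hU⟩ := hF u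
  refine ⟨T' 0 - i U, fun N => ?_⟩
  obtain ⟨v, hv⟩ := hU N
  refine ⟨T' N - i v, ?_⟩
  have htel : ∀ M, T' 0 = (∑ n ∈ Finset.range M, a ^ n • d n) + i (∑ n ∈ Finset.range M, a ^ n • u n) + a ^ M • T' M := by
    intro M
    induction M with
    | zero => simp
    | succ M ih =>
      rw [Finset.sum_range_succ, Finset.sum_range_succ, map_add, map_smul, hu]
      refine ih.trans ?_
      simp only [smul_sub, smul_smul, ← pow_succ]
      abel
  rw [htel N, sub_eq_iff_eq_add.1 hv, map_add, map_smul, smul_sub]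
  abel

end Groth.Agent.ProEtLim
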