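import Groth.Agent.ProEtLim.Cat
import Groth.Agent.ProEtLim.ExtAlgebra
import Groth.Agent.EtTrivGen.EpsImage

/-!
Extensions of adic pro-etale sheaves for a principal ideal.
-/

set_option autoImplicit false
set_option backward.isDefEq.respectTransparency false
set_option backward.isDefEq.respectTransparency.types false
set_option linter.style.haveILetI false
set_option linter.unusedSectionVars false
set_option maxHeartbeats 1000000
set_option synthInstance.maxHeartbeats 200000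

universe u v w

open CategoryTheory CategoryTheory.Limits AlgebraicGeometry Opposite

noncomputable section

namespace Groth.Agent.ProEtLim

section Cat

variable {C : Type w} [Category.{v} C] [Abelian C]

/-- five lemma for a weak Serre class -/
theorem prop_of_exact₄ (P : ObjectProperty C) [WSerre.IsWeakSerre P] {A : C} (T : ShortComplex C) (δ : A ⟶ T.X₁)
    (w : δ ≫ T.f = 0) (h : (ShortComplex.mk δ T.f w).Exact) (hT : T.Exact) [Epi T.g]
    (hA : P A) (h₁ : P T.X₁) (h₃ : P T.X₃) : P T.X₂ := by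
  haveI : Mono (cokernel.desc δ T.f w) := h.mono_cokernelDesc
  let T' : ShortComplex C := ShortComplex.mk (cokernel.desc δ T.f w) T.g
    (by rw [← cancel_epi (cokernel.π δ), cokernel.π_desc_assoc, T.zero, comp_zero])
  let φ : T ⟶ T' := { τ₁ := cokernel.π δ, τ₂ := 𝟙 _, τ₃ := 𝟙 _ }
  haveI : Epi φ.τ₁ := inferInstanceAs (Epi (cokernel.π δ))
  haveI : IsIso φ.τ₂ := inferInstanceAs (IsIso (𝟙 T.X₂))
  haveI : Mono φ.τ₃ := inferInstanceAs (Mono (𝟙 T.X₃))
  have hT' : T'.ShortExact :=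
    ShortComplex.ShortExact.mk' ((ShortComplex.exact_iff_of_epi_of_isIso_of_mono φ).1 hT)
      (inferInstanceAs (Mono (cokernel.desc δ T.f w))) (inferInstanceAs (Epi T.g))
  exact (P.prop_X₂_of_shortExact hT' (P.prop_cokernel δ hA h₁) h₃ : P T'.X₂)

variable {A : Type*} [CommRing A] [Linear A C]

theorem smul_id_comp' (c : A) {X Y : C} (f : X ⟶ Y) : (c • 𝟙 X) ≫ f = c • f := by
  rw [Linear.smul_comp, Category.id_comp]

/-- the reduction of an extension modulo a scalar -/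
theorem prop_cokernel_smul_of_shortExact (P : ObjectProperty C) [WSerre.IsWeakSerre P] (S : ShortComplex C)
    (hS : S.ShortExact) (c : A) (h₁ : P (cokernel (c • 𝟙 S.X₁))) (h₃' : P (kernel (c • 𝟙 S.X₃)))
    (h₃ : P (cokernel (c • 𝟙 S.X₃))) : P (cokernel (c • 𝟙 S.X₂)) := by
  haveI := hS.mono_f
  haveI := hS.epi_g
  let v : S ⟶ S :=
    { τ₁ := c • 𝟙 S.X₁, τ₂ := c • 𝟙 S.X₂, τ₃ := c • 𝟙 S.X₃
      comm₁₂ := by rw [smul_id_comp', Linear.comp_smul, Category.comp_id]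
      comm₂₃ := by rw [smul_id_comp', Linear.comp_smul, Category.comp_id] }
  let D : ShortComplex.SnakeInput C :=
    { L₀ := kernel v, L₁ := S, L₂ := S, L₃ := cokernel v
      v₀₁ := kernel.ι v, v₁₂ := v, v₂₃ := cokernel.π v
      w₀₂ := kernel.condition v, w₁₃ := cokernel.condition v
      h₀ := kernelIsKernel v, h₃ := cokernelIsCokernel v
      L₁_exact := hS.exact, epi_L₁_g := hS.epi_g, L₂_exact := hS.exact, mono_L₂_f := hS.mono_f }
  haveI : Epi D.L₃.g := D.epi_L₃_g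
  have e₁ : (cokernel v).X₁ ≅ cokernel (c • 𝟙 S.X₁) := PreservesCokernel.iso (ShortComplex.π₁ (C := C)) v
  have e₂ : (cokernel v).X₂ ≅ cokernel (c • 𝟙 S.X₂) := PreservesCokernel.iso (ShortComplex.π₂ (C := C)) v
  have e₃ : (cokernel v).X₃ ≅ cokernel (c • 𝟙 S.X₃) := PreservesCokernel.iso (ShortComplex.π₃ (C := C)) v
  have e₀ : (kernel v).X₃ ≅ kernel (c • 𝟙 S.X₃) := PreservesKernel.iso (ShortComplex.π₃ (C := C)) v
  exact P.prop_of_iso e₂ (prop_of_exact₄ P D.L₃ D.δ D.L₂'.zero D.L₂'_exact D.L₃_exact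
    (P.prop_of_iso e₀.symm h₃') (P.prop_of_iso e₁.symm h₁) (P.prop_of_iso e₃.symm h₃))

theorem isQuot_cokernel_smul (c : A) (F : C) :
    ARSys.IsQuot (Ideal.span {c}) (cokernel.π (c • 𝟙 F)) := by
  have h0 : c • cokernel.π (c • 𝟙 F) = 0 := (smul_id_comp' c _).symm.trans (cokernel.condition _)
  refine ⟨?_, fun Y φ hφ => ?_⟩
  · intro b hb
    obtain ⟨r, rfl⟩ := Ideal.mem_span_singleton'.1 hb
    rw [← cancel_epi (cokernel.π (c • 𝟙 F)), Linear.comp_smul, Category.comp_id, mul_smul, h0, smul_zero, comp_zero]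
  · have hw : (c • 𝟙 F) ≫ φ = 0 := by rw [smul_id_comp', hφ c (Ideal.mem_span_singleton_self c)]
    exact ⟨cokernel.desc _ φ hw, cokernel.π_desc _ _ _,
      fun ψ hψ => (cancel_epi (cokernel.π (c • 𝟙 F))).1 (hψ.trans (cokernel.π_desc _ _ _).symm)⟩

end Cat

section ProEt

variable {Λ : Type (u + 1)} [CommRing Λ] {X : Scheme.{u}}

theorem mono_of_secMap_injective {F G : EtModW.ModP Λ X} (φ : F ⟶ G)
    (h : ∀ U : X.ProEt, ProEtS.IsWC U → ∀ x, secMap φ U x = 0 → x = 0) : Mono φ :=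
  Preadditive.mono_of_kernel_zero (eq_zero_of_secMap _ fun U hU y => h U hU _ (by
    rw [← secMap_comp, kernel.condition]
    rfl))

theorem exists_smul_of_mem {M : Type w} [AddCommGroup M] [Module Λ M] {c : Λ} {x : M}
    (h : x ∈ Ideal.span {c} • (⊤ : Submodule Λ M)) : ∃ v : M, x = c • v := by
  refine Submodule.smul_induction_on h (fun b hb v _ => ?_) (fun v w hv hw => ?_)
  · obtain ⟨r, rfl⟩ := Ideal.mem_span_singleton'.1 hb
    exact ⟨r • v, by rw [smul_smul, mul_comm]⟩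
  · obtain ⟨v', rfl⟩ := hv
    obtain ⟨w', rfl⟩ := hw
    exact ⟨v' + w', (smul_add c v' w').symm⟩

variable (a : Λ) {Q : ℕᵒᵖ ⥤ EtModW.ModP Λ X}

theorem smul_sec_eq_zero {F : EtModW.ModP Λ X} {c : Λ} (h : c • 𝟙 F = 0) (U : X.ProEt) (y : F.obj.obj (op U)) :
    c • y = 0 := by
  rw [← secMap_smul_id c U y, h]
  rfl

theorem pow_mem (n : ℕ) : a ^ n ∈ Ideal.span {a} ^ n :=
  Ideal.pow_mem_pow (Ideal.mem_span_singleton_self a) n

theorem aSep_limit (hQ : ARSys.IsAdic (Ideal.span {a}) Q) {U : X.ProEt} :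
    ASep a ((limit Q).obj.obj (op U) : Type (u + 1)) := fun x hx => sec_ext Q U x fun n => by
  obtain ⟨v, hv⟩ := hx (n + 1)
  rw [hv, map_smul]
  exact smul_sec_eq_zero (hQ.1 n _ (pow_mem a (n + 1))) U _

theorem seriesConv_limit (hQ : ARSys.IsAdic (Ideal.span {a}) Q) {U : X.ProEt} (hU : ProEtS.IsWC U) :
    SeriesConv a ((limit Q).obj.obj (op U) : Type (u + 1)) := by
  intro d
  obtain ⟨T, hT⟩ := exists_family Q U (fun n => secπ Q U n (∑ j ∈ Finset.range (n + 1), a ^ j • d j)) fun n => by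
    rw [secπ_tr, Finset.sum_range_succ _ (n + 1), map_add, map_smul,
      smul_sec_eq_zero (hQ.1 n _ (pow_mem a (n + 1))) U, add_zero]
  refine ⟨T, fun N => ?_⟩
  match N with
  | 0 => exact ⟨T, by rw [Finset.range_zero, Finset.sum_empty, sub_zero, pow_zero, one_smul]⟩
  | n + 1 =>
    have h := secπ_eq_zero_imp (Submodule.fg_span (Set.finite_singleton a)) hQ hU
      (x := T - ∑ j ∈ Finset.range (n + 1), a ^ j • d j) (n := n) (by rw [map_sub, hT n, sub_self])
    rw [Ideal.span_singleton_pow] at h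
    exact exists_smul_of_mem h

theorem ASep.congr {M N : Type w} [AddCommGroup M] [Module Λ M] [AddCommGroup N] [Module Λ N] (e : M ≃ₗ[Λ] N)
    (h : ASep a M) : ASep a N := fun x hx => by
  rw [← e.apply_symm_apply x, h (e.symm x) fun k => ?_, map_zero]
  obtain ⟨v, hv⟩ := hx k
  exact ⟨e.symm v, by rw [hv, map_smul]⟩

theorem SeriesConv.congr {M N : Type w} [AddCommGroup M] [Module Λ M] [AddCommGroup N] [Module Λ N] (e : M ≃ₗ[Λ] N)
    (h : SeriesConv a M) : SeriesConv a N := fun d => by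
  obtain ⟨T, hT⟩ := h fun n => e.symm (d n)
  refine ⟨e T, fun k => ?_⟩
  obtain ⟨v, hv⟩ := hT k
  exact ⟨e v, by rw [← map_smul, ← hv, map_sub, map_sum]; simp⟩

variable [ProEtS.EpsCont X] [IsNoetherianRing Λ] [IsNoetherian X]

/-- essential image of the constructible sheaves -/
abbrev consP : ObjectProperty (EtModW.ModP Λ X) := fun F =>
  ∃ E : EtModW.Mod Λ X, EtModW.IsConstructible Λ E ∧ Nonempty ((EtModW.epsPullMod Λ X).obj E ≅ F)

theorem isWeakSerre_consP : WSerre.IsWeakSerre (consP (Λ := Λ) (X := X)) := by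
  haveI : WSerre.IsWeakSerre (fun E : EtModW.Mod Λ X => EtModW.IsConstructible Λ E) :=
    EtTrivGen.isWeakSerre_isConstructible Λ
  exact EtTrivGen.isWeakSerre_epsPullMod_image Λ fun E : EtModW.Mod Λ X => EtModW.IsConstructible Λ E

variable {a} {G : ARSys.PS (EtModW.Mod Λ X)}

theorem consP_cokernel_smul (hG : ARSys.IsAdic (Ideal.span {a}) G)
    (hc : ∀ n : ℕ, EtModW.IsConstructible Λ (G.obj (op n))) {F : EtModW.ModP Λ X} (e : adicLim G ≅ F) (n : ℕ) :
    consP (cokernel (a ^ (n + 1) • 𝟙 F)) := by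
  have h1 : ARSys.IsQuot (Ideal.span {a} ^ (n + 1)) (e.inv ≫ limit.π (epsSys G) (op n)) :=
    EtTrivGen.isQuot_congr e.symm (Iso.refl _) (Category.comp_id _)
      (isQuot_limit_π (Submodule.fg_span (Set.finite_singleton a)) (isAdic_epsSys hG) n)
  have h2 : ARSys.IsQuot (Ideal.span {a} ^ (n + 1)) (cokernel.π (a ^ (n + 1) • 𝟙 F)) := by
    rw [Ideal.span_singleton_pow]
    exact isQuot_cokernel_smul _ F
  have k1 : ARSys.HomKilledBy (Ideal.span {a} ^ (n + 1)) (e.inv ≫ limit.π (epsSys G) (op n)) := fun b hb => by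
    rw [← Category.comp_id (_ ≫ _), ← Linear.comp_smul, h1.1 b hb, comp_zero]
  have k2 : ARSys.HomKilledBy (Ideal.span {a} ^ (n + 1)) (cokernel.π (a ^ (n + 1) • 𝟙 F)) := fun b hb => by
    rw [← Category.comp_id (cokernel.π _), ← Linear.comp_smul, h2.1 b hb, comp_zero]
  obtain ⟨ψ, hψ, -⟩ := h1.2 _ _ k2
  obtain ⟨ψ', hψ', -⟩ := h2.2 _ _ k1
  exact ⟨G.obj (op n), hc n, ⟨⟨ψ, ψ',
    EtTrivGen.IsQuot.hom_ext h1 (by rw [← Category.assoc, hψ, hψ']; exact (Category.comp_id _).symm),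
    EtTrivGen.IsQuot.hom_ext h2 (by rw [← Category.assoc, hψ', hψ]; exact (Category.comp_id _).symm)⟩⟩⟩

theorem exists_adic_kernel_smul (hG : ARSys.IsAdic (Ideal.span {a}) G)
    (hc : ∀ n : ℕ, EtModW.IsConstructible Λ (G.obj (op n))) {F : EtModW.ModP Λ X} (e : adicLim G ≅ F) (c : Λ) :
    ∃ Y : ARSys.PS (EtModW.Mod Λ X), ARSys.IsAdic (Ideal.span {a}) Y ∧
      (∀ n : ℕ, EtModW.IsConstructible Λ (Y.obj (op n))) ∧ Nonempty (Tlim.obj Y ≅ kernel (c • 𝟙 F)) := by
  obtain ⟨w, hw⟩ := exists_map_of_hom (Submodule.fg_span (Set.finite_singleton a)) hG hG (c • 𝟙 (adicLim G))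
  obtain ⟨Y, hY, hYc, ⟨eY⟩⟩ := exists_kernel_adic hG hG hc hc w
  exact ⟨Y, hY, hYc, ⟨eY ≪≫ kernel.mapIso _ _ e e (by
    change Tlim.map w ≫ e.hom = _
    rw [show Tlim.map w = c • 𝟙 (adicLim G) from hw]
    exact (smul_id_comp' c _).trans ((Linear.comp_smul _ _ _ _ _ _).trans (congrArg (c • ·) (Category.comp_id _))).symm)⟩⟩

theorem consP_kernel_smul (hG : ARSys.IsAdic (Ideal.span {a}) G)
    (hc : ∀ n : ℕ, EtModW.IsConstructible Λ (G.obj (op n))) {F : EtModW.ModP Λ X} (e : adicLim G ≅ F) (n : ℕ) :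
    consP (kernel (a ^ (n + 1) • 𝟙 F)) := by
  obtain ⟨Y, hY, hYc, ⟨eY⟩⟩ := exists_adic_kernel_smul hG hc e (a ^ (n + 1))
  have hK : a ^ (n + 1) • 𝟙 (kernel (a ^ (n + 1) • 𝟙 F)) = 0 := by
    rw [← cancel_mono (kernel.ι (a ^ (n + 1) • 𝟙 F)), smul_id_comp', zero_comp]
    have h := kernel.condition (a ^ (n + 1) • 𝟙 F)
    rwa [Linear.comp_smul, Category.comp_id] at h
  have hk : a ^ (n + 1) • 𝟙 (Tlim.obj Y) = 0 := by
    rw [← cancel_mono eY.hom, smul_id_comp', zero_comp, ← Category.comp_id eY.hom, ← Linear.comp_smul, hK, comp_zero]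
  have hq := isQuot_limit_π (Submodule.fg_span (Set.finite_singleton a)) (isAdic_epsSys hY) n
  haveI := epi_limit_π (epsSys Y) (isStrict_of_isAdic (isAdic_epsSys hY)) n
  obtain ⟨ψ, hψ, -⟩ := hq.2 _ (𝟙 (adicLim Y)) (fun b hb => by
    rw [Ideal.span_singleton_pow] at hb
    obtain ⟨r, rfl⟩ := Ideal.mem_span_singleton'.1 hb
    rw [mul_smul, show a ^ (n + 1) • 𝟙 (adicLim Y) = 0 from hk, smul_zero])
  have h2 : ψ ≫ limit.π (epsSys Y) (op n) = 𝟙 _ := by
    rw [← cancel_epi (limit.π (epsSys Y) (op n)), ← Category.assoc, hψ, Category.id_comp, Category.comp_id]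
  exact ⟨Y.obj (op n), hYc n, ⟨(⟨ψ, limit.π (epsSys Y) (op n), h2, hψ⟩ : _ ≅ _) ≪≫ eY⟩⟩

theorem exists_torsion_bound (hG : ARSys.IsAdic (Ideal.span {a}) G)
    (hc : ∀ n : ℕ, EtModW.IsConstructible Λ (G.obj (op n))) {F : EtModW.ModP Λ X} (e : adicLim G ≅ F) :
    ∃ k₀ : ℕ, ∀ U : X.ProEt, ∀ k, k₀ ≤ k → ∀ h : F.obj.obj (op U), a ^ k • h = 0 → a ^ k₀ • h = 0 := by
  let Z : ℕ →o Subobject F := ⟨fun k => kernelSubobject (a ^ k • 𝟙 F), monotone_nat_of_le_succ fun k => by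
    refine Subobject.le_of_comm (Subobject.factorThru _ (kernelSubobject (a ^ k • 𝟙 F)).arrow
      (kernelSubobject_factors _ _ ?_)) (Subobject.factorThru_arrow _ _ _)
    rw [Linear.comp_smul, Category.comp_id, pow_succ', mul_smul]
    have h := kernelSubobject_arrow_comp (a ^ k • 𝟙 F)
    rw [Linear.comp_smul, Category.comp_id] at h
    rw [h, smul_zero]⟩
  obtain ⟨k₀, hk₀⟩ := exists_eventually_eq hG hc e Z fun k => by
    obtain ⟨Y, hY, hYc, ⟨eY⟩⟩ := exists_adic_kernel_smul hG hc e (a ^ k)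
    exact ⟨Y, hY, hYc, ⟨eY ≪≫ (kernelSubobjectIso (a ^ k • 𝟙 F)).symm⟩⟩
  refine ⟨k₀, fun U k hk h hh => ?_⟩
  obtain ⟨y, rfl⟩ := exists_sec_of_kernel (a ^ k • 𝟙 F) U h (by rw [secMap_smul_id, hh])
  have hz : kernel.ι (a ^ k • 𝟙 F) ≫ (a ^ k₀ • 𝟙 F) = 0 := by
    rw [← kernelSubobject_arrow' (a ^ k • 𝟙 F), Category.assoc]
    have h1 : (Z k).arrow ≫ (a ^ k₀ • 𝟙 F) = 0 := by
      rw [hk₀ k hk]
      exact kernelSubobject_arrow_comp _
    rw [show (kernelSubobject (a ^ k • 𝟙 F)).arrow ≫ (a ^ k₀ • 𝟙 F) = 0 from h1, comp_zero]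
  rw [← secMap_smul_id (a ^ k₀) U, ← secMap_comp, hz]
  rfl

end ProEt

section Tower

variable {Λ : Type (u + 1)} [CommRing Λ] {X : Scheme.{u}} (a : Λ) (F : EtModW.ModP Λ X)

/-- quotients by powers -/
abbrev quo (n : ℕ) : EtModW.ModP Λ X := cokernel (a ^ (n + 1) • 𝟙 F)

theorem quo_cond (n : ℕ) : (a ^ (n + 1 + 1) • 𝟙 F) ≫ cokernel.π (a ^ (n + 1) • 𝟙 F) = 0 := by
  rw [pow_succ' a (n + 1), mul_smul, Linear.smul_comp, cokernel.condition, smul_zero]

/-- the tower of quotients -/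
def quoSys : ℕᵒᵖ ⥤ EtModW.ModP Λ X :=
  Functor.ofOpSequence (X := quo a F) fun n => cokernel.desc _ _ (quo_cond a F n)

/-- projection to the tower -/
def quoπ : (Functor.const ℕᵒᵖ).obj F ⟶ quoSys a F :=
  NatTrans.ofOpSequence (fun n => cokernel.π (a ^ (n + 1) • 𝟙 F)) fun n => by
    dsimp only [quoSys, Functor.const_obj_map]
    rw [Functor.ofOpSequence_map_homOfLE_succ, cokernel.π_desc]
    exact Category.id_comp _

theorem isQuot_quoπ (n : ℕ) : ARSys.IsQuot (Ideal.span {a} ^ (n + 1)) ((quoπ a F).app (op n)) := by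
  rw [Ideal.span_singleton_pow]
  exact isQuot_cokernel_smul (a ^ (n + 1)) F

/-- one projection -/
abbrev quoπAt (n : ℕ) : F ⟶ (quoSys a F).obj (op n) := (quoπ a F).app (op n)

theorem quoπAt_tr (n : ℕ) : quoπAt a F (n + 1) ≫ ARSys.tr (quoSys a F) (Nat.le_succ n) = quoπAt a F n :=
  ((quoπ a F).naturality (homOfLE (Nat.le_succ n)).op).symm.trans (Category.id_comp _)

theorem isIso_lift_quo (hsep : ∀ U : X.ProEt, ProEtS.IsWC U → ASep a (F.obj.obj (op U) : Type (u + 1)))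
    (hconv : ∀ U : X.ProEt, ProEtS.IsWC U → SeriesConv a (F.obj.obj (op U) : Type (u + 1))) :
    IsIso (limit.lift (quoSys a F) (Cone.mk F (quoπ a F))) := by
  have hfac : ∀ (U : X.ProEt) (n : ℕ) x,
      secπ (quoSys a F) U n (secMap (limit.lift (quoSys a F) (Cone.mk F (quoπ a F))) U x) =
        secMap (quoπAt a F n) U x := fun U n x => by
    rw [← secMap_comp, limit.lift_π]
  have hker : ∀ (U : X.ProEt), ProEtS.IsWC U → ∀ (n : ℕ) x, secMap (quoπAt a F n) U x = 0 →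
      ∃ v, x = a ^ (n + 1) • v := fun U hU n x hx => by
    have h := mem_smul_of_isQuot (Ideal.FG.pow (n := n + 1) (Submodule.fg_span (Set.finite_singleton a)))
      (isQuot_quoπ a F n) hU x hx
    rw [Ideal.span_singleton_pow] at h
    exact exists_smul_of_mem h
  haveI := mono_of_secMap_injective (limit.lift (quoSys a F) (Cone.mk F (quoπ a F))) fun U hU x hx =>
    hsep U hU x fun k => by
      match k with
      | 0 => exact ⟨x, by rw [pow_zero, one_smul]⟩
      | n + 1 => exact hker U hU n x (by rw [← hfac, hx, map_zero])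
  haveI := epi_of_secMap_surjective (limit.lift (quoSys a F) (Cone.mk F (quoπ a F))) fun U hU y => by
    have hs : ∀ n, ∃ g, secMap (quoπAt a F n) U g = secπ (quoSys a F) U n y := fun n => by
      haveI : Epi (quoπAt a F n) := inferInstanceAs (Epi (cokernel.π (a ^ (n + 1) • 𝟙 F)))
      exact secMap_surjective _ hU _
    choose g hg using hs
    have hd : ∀ n, ∃ v, g (n + 1) - g n = a ^ (n + 1) • v := fun n => hker U hU n _ (by
      rw [map_sub, hg n, sub_eq_zero]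
      have e : secMap (quoπAt a F n) U (g (n + 1)) =
          secMap (ARSys.tr (quoSys a F) (Nat.le_succ n)) U (secMap (quoπAt a F (n + 1)) U (g (n + 1))) := by
        rw [← secMap_comp]
        exact congrArg (fun φ => secMap φ U (g (n + 1))) (quoπAt_tr a F n).symm
      rw [e, hg, secπ_tr])
    choose d hd using hd
    let d' : ℕ → (F.obj.obj (op U) : Type (u + 1)) := fun j => Nat.casesOn j (g 0) d
    obtain ⟨T, hT⟩ := hconv U hU d'
    have hsum : ∀ n, g n = ∑ j ∈ Finset.range (n + 1), a ^ j • d' j := by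
      intro n
      induction n with
      | zero => simp [d']
      | succ n ih =>
        rw [Finset.sum_range_succ, ← ih, ← sub_eq_iff_eq_add'.1 (hd n)]
    refine ⟨T, sub_eq_zero.1 (sec_ext _ U _ fun n => ?_)⟩
    obtain ⟨v, hv⟩ := hT (n + 1)
    rw [← hsum n] at hv
    rw [map_sub, hfac, ← hg n, ← map_sub, hv, map_smul]
    exact smul_sec_eq_zero ((isQuot_quoπ a F n).1 _ (pow_mem a (n + 1))) U _
  exact isIso_of_mono_of_epi _

end Tower

/-- extensions of adic sheaves -/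
theorem exists_tower_of_shortExact {Λ : Type (u + 1)} [CommRing Λ] [IsNoetherianRing Λ] {X : Scheme.{u}}
    [IsNoetherian X] [ProEtS.EpsCont X] {a : Λ} {G₁ G₃ : ARSys.PS (EtModW.Mod Λ X)}
    (h₁ : ARSys.IsAdic (Ideal.span {a}) G₁) (c₁ : ∀ n : ℕ, EtModW.IsConstructible Λ (G₁.obj (op n)))
    (h₃ : ARSys.IsAdic (Ideal.span {a}) G₃) (c₃ : ∀ n : ℕ, EtModW.IsConstructible Λ (G₃.obj (op n)))
    {S : ShortComplex (EtModW.ModP Λ X)} (hS : S.ShortExact) (e₁ : adicLim G₁ ≅ S.X₁) (e₃ : adicLim G₃ ≅ S.X₃) :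
    (∀ n : ℕ, ARSys.IsQuot (Ideal.span {a} ^ (n + 1)) ((quoπ a S.X₂).app (op n))) ∧
      (∀ n : ℕ, consP ((quoSys a S.X₂).obj (op n))) ∧
      IsIso (limit.lift (quoSys a S.X₂) (Cone.mk S.X₂ (quoπ a S.X₂))) := by
  haveI := isWeakSerre_consP (Λ := Λ) (X := X)
  refine ⟨isQuot_quoπ a S.X₂, fun n => prop_cokernel_smul_of_shortExact consP S hS _
    (consP_cokernel_smul h₁ c₁ e₁ n) (consP_kernel_smul h₃ c₃ e₃ n) (consP_cokernel_smul h₃ c₃ e₃ n), ?_⟩
  obtain ⟨k₀, hk₀⟩ := exists_torsion_bound h₃ c₃ e₃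
  haveI := hS.mono_f
  haveI := hS.epi_g
  let E₁ := fun U : X.ProEt => ((WContr.DC.secF (Λ := Λ) U).mapIso e₁).toLinearEquiv
  let E₃ := fun U : X.ProEt => ((WContr.DC.secF (Λ := Λ) U).mapIso e₃).toLinearEquiv
  refine isIso_lift_quo a S.X₂ (fun U hU => ?_) (fun U hU => ?_)
  · exact aSep_extension a (i := secMap S.f U) (p := secMap S.g U) (secMap_injective S.f U)
      (exists_sec_of_shortExact hS U) ((aSep_limit a (isAdic_epsSys h₁)).congr a (E₁ U))
      ((aSep_limit a (isAdic_epsSys h₃)).congr a (E₃ U)) k₀ (hk₀ U)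
  · exact seriesConv_extension a (i := secMap S.f U) (p := secMap S.g U) (secMap_surjective S.g hU)
      (exists_sec_of_shortExact hS U) ((seriesConv_limit a (isAdic_epsSys h₁) hU).congr a (E₁ U))
      ((seriesConv_limit a (isAdic_epsSys h₃) hU).congr a (E₃ U))
      ((aSep_limit a (isAdic_epsSys h₃)).congr a (E₃ U))

end Groth.Agent.ProEtLim
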