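import Groth.Agent.ProEtLim.Cat
import Groth.Agent.EtTrivGen.AdicCover
import Groth.Agent.EtTrivGen.AdicTriv
import Groth.Agent.EtTrivGen.StalkSpec

/-!
Mittag-Leffler for systems of finite type locally constant sheaves with artinian coefficients.
-/

set_option autoImplicit false
set_option backward.isDefEq.respectTransparency false
set_option backward.isDefEq.respectTransparency.types false
set_option linter.style.haveILetI false
set_option linter.unusedSectionVars false
set_option maxHeartbeats 1000000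
set_option synthInstance.maxHeartbeats 200000

universe u v v' w w'

open CategoryTheory CategoryTheory.Limits AlgebraicGeometry Opposite TopologicalSpace

noncomputable section

namespace Groth.Agent.ProEtLim

theorem rng_map_le {C : Type w} [Category.{v} C] [Abelian C] {D : Type w'} [Category.{v'} D] [Abelian D]
    (L : C ⥤ D) [L.Additive] [PreservesFiniteColimits L] {X X' Y : C} (f : X ⟶ Y) (g : X' ⟶ Y)
    (h : ARLib.rng f ≤ ARLib.rng g) : ARLib.rng (L.map f) ≤ ARLib.rng (L.map g) := by
  rw [EtTrivGen.rng_le_iff_comp] at h ⊢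
  have e : L.map (cokernel.π g) ≫ (PreservesCokernel.iso L g).hom = cokernel.π (L.map g) := by
    rw [← Iso.eq_comp_inv, PreservesCokernel.iso_inv]
    exact (π_comp_cokernelComparison g L).symm
  rw [← e, ← Category.assoc, ← L.map_comp, h, L.map_zero, zero_comp]

theorem isArtinian_of_killed {A : Type u} [CommRing A] [IsNoetherianRing A] (I : Ideal A) [IsArtinianRing (A ⧸ I)]
    (k : ℕ) (M : Type v) [AddCommGroup M] [Module A M] [Module.Finite A M]
    (h : ∀ a ∈ I ^ (k + 1), ∀ x : M, a • x = 0) : IsArtinian A M := by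
  let J := I ^ (k + 1)
  haveI : Ring.KrullDimLE 0 (A ⧸ J) := by
    rw [Ring.krullDimLE_zero_iff]
    intro P hP
    haveI := hP.comap (Ideal.Quotient.mk J)
    let P' := P.comap (Ideal.Quotient.mk J)
    have hIP : I ≤ P' := Ideal.IsPrime.le_of_pow_le (fun a ha => by
      show Ideal.Quotient.mk J a ∈ P
      rw [Ideal.Quotient.eq_zero_iff_mem.2 ha]
      exact P.zero_mem : I ^ (k + 1) ≤ P')
    have hmax : P'.IsMaximal := by
      haveI hp : (P'.map (Ideal.Quotient.mk I)).IsPrime :=
        Ideal.map_isPrime_of_surjective Ideal.Quotient.mk_surjective (by rwa [Ideal.mk_ker])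
      haveI := IsArtinianRing.isMaximal_of_isPrime (P'.map (Ideal.Quotient.mk I))
      have := Ideal.comap_isMaximal_of_surjective (Ideal.Quotient.mk I) Ideal.Quotient.mk_surjective
        (K := P'.map (Ideal.Quotient.mk I))
      rwa [Ideal.comap_map_of_surjective' _ Ideal.Quotient.mk_surjective, Ideal.mk_ker, sup_eq_left.2 hIP] at this
    rw [← Ideal.map_comap_of_surjective _ Ideal.Quotient.mk_surjective P]
    haveI := hmax
    exact Ideal.IsMaximal.map_of_surjective_of_ker_le Ideal.Quotient.mk_surjective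
      (fun a ha => by
        show Ideal.Quotient.mk J a ∈ P
        rw [RingHom.mem_ker.1 ha]
        exact P.zero_mem)
  haveI : IsArtinianRing (A ⧸ J) := isArtinianRing_iff_isNoetherianRing_krullDimLE_zero.2 ⟨inferInstance, inferInstance⟩
  have htor : Module.IsTorsionBySet A M (J : Set A) := fun x a => h a.1 a.2 x
  letI := htor.module
  haveI : IsScalarTower A (A ⧸ J) M := htor.isScalarTower
  haveI : Module.Finite (A ⧸ J) M := Module.Finite.of_restrictScalars_finite A (A ⧸ J) M
  exact isArtinian_of_surjective_algebraMap (R := A ⧸ J) (S := A) Ideal.Quotient.mk_surjective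

variable {Λ : Type (u + 1)} [CommRing Λ] [IsNoetherianRing Λ] {X : Scheme.{u}} [IsNoetherian X]

theorem exists_rng_stationary (I : Ideal Λ) [IsArtinianRing (Λ ⧸ I)] (F : ARSys.PS (EtModW.Mod Λ X))
    (hk : ARSys.TermKilled I F) (hF : ∀ n : ℕ, EtModW.IsFTLocConst Λ (F.obj (op n))) (n : ℕ) :
    ∃ r : ℕ, ∀ s : ℕ, r ≤ s →
      ARLib.rng (ARSys.shiftMap F r n) ≤ ARLib.rng (ARSys.shiftMap F s n) := by
  haveI : Finite (irreducibleComponents X) := (NoetherianSpace.finite_irreducibleComponents (α := X)).to_subtype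
  choose g hg using fun C : irreducibleComponents X =>
    QuasiSober.sober C.2.1 (isClosed_of_mem_irreducibleComponents C.1 C.2)
  choose Ω iF iS ξ hξ' hξ using fun C : irreducibleComponents X => EtStalk.covers_all (X := X) (g C)
  have hC : ∀ C : irreducibleComponents X, ∃ r : ℕ, ∀ s : ℕ, r ≤ s →
      letI := iF C; haveI := iS C
      LinearMap.range ((EtModW.stalk Λ (ξ C)).map (ARSys.shiftMap F r n)).hom ≤
        LinearMap.range ((EtModW.stalk Λ (ξ C)).map (ARSys.shiftMap F s n)).hom := by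
    intro C
    letI := iF C
    haveI := iS C
    let M := (EtModW.stalk Λ (ξ C)).obj (F.obj (op n))
    haveI : Module.Finite Λ M := EtTrivGen.finite_stalk_of_isFTLocConst (hF n) (ξ C)
    haveI : IsArtinian Λ M := isArtinian_of_killed I n M fun a ha x => by
      rw [← EtTrivGen.stalk_map_smul (ξ C) a (F.obj (op n)) x, hk n a ha, Functor.map_zero]
      rfl
    let R : ℕ →o (Submodule Λ M)ᵒᵈ := ⟨fun s => OrderDual.toDual
        (LinearMap.range ((EtModW.stalk Λ (ξ C)).map (ARSys.shiftMap F s n)).hom), fun s t hst => by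
      rintro _ ⟨z, rfl⟩
      refine ⟨(EtModW.stalk Λ (ξ C)).map (ARSys.tr F (Nat.add_le_add_left hst n)) z, ?_⟩
      change (EtModW.stalk Λ (ξ C)).map _ ((EtModW.stalk Λ (ξ C)).map _ z) = _
      rw [← ConcreteCategory.comp_apply, ← Functor.map_comp, EtTrivGen.tr_tr]⟩
    obtain ⟨r, hr⟩ := IsArtinian.monotone_stabilizes R
    exact ⟨r, fun s hs => (congrArg OrderDual.ofDual (hr s hs)).le⟩
  choose r hr using hC
  obtain ⟨r₀, hr₀⟩ := Finite.bddAbove_range r
  refine ⟨r₀, fun s hs => (EtTrivGen.rng_le_iff_comp _ _).2 ?_⟩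
  let φ := ARSys.shiftMap F r₀ n ≫ cokernel.π (ARSys.shiftMap F s n)
  refine EtTrivGen.eq_zero_of_stalks φ fun Ω' _ _ x => ?_
  let z := x (default : Spec (CommRingCat.of Ω'))
  let C : irreducibleComponents X := ⟨irreducibleComponent z, irreducibleComponent_mem_irreducibleComponents z⟩
  letI := iF C
  haveI := iS C
  have hsp : ξ C (default : Spec (CommRingCat.of (Ω C))) ⤳ z := by
    rw [hξ C]
    exact (hg C).specializes mem_irreducibleComponent
  obtain ⟨m⟩ := EtCons.exists_specialization x (ξ C) hsp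
  let Q := cokernel (ARSys.shiftMap F s n)
  let sp : EtModW.stalk Λ x ⟶ EtModW.stalk Λ (ξ C) := EtTrivGen.spMap m
  haveI : IsIso (sp.app Q) :=
    EtTrivGen.isIso_spMap (Λ := Λ) m (EtTrivGen.isFTLocConst_cokernel (ARSys.shiftMap F s n) (hF _) (hF _))
  refine ModuleCat.hom_ext (LinearMap.ext fun v => ?_)
  refine ((ConcreteCategory.isIso_iff_bijective (sp.app Q)).1 inferInstance).1 ?_
  refine (NatTrans.naturality_apply sp φ v).trans ?_
  have h0 : (EtModW.stalk Λ (ξ C)).map φ = 0 := by
    refine ModuleCat.hom_ext (LinearMap.ext fun w => ?_)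
    have hle : r C ≤ r₀ := hr₀ ⟨C, rfl⟩
    obtain ⟨w', hw'⟩ : ∃ w', (EtModW.stalk Λ (ξ C)).map (ARSys.shiftMap F s n) w' =
        (EtModW.stalk Λ (ξ C)).map (ARSys.shiftMap F r₀ n) w := by
      refine hr C s (hle.trans hs) ⟨(EtModW.stalk Λ (ξ C)).map (ARSys.tr F (Nat.add_le_add_left hle n)) w, ?_⟩
      change (EtModW.stalk Λ (ξ C)).map _ ((EtModW.stalk Λ (ξ C)).map _ w) = _
      rw [← ConcreteCategory.comp_apply, ← Functor.map_comp, EtTrivGen.tr_tr]
    change (EtModW.stalk Λ (ξ C)).map φ w = 0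
    rw [Functor.map_comp, ConcreteCategory.comp_apply, ← hw', ← ConcreteCategory.comp_apply, ← Functor.map_comp,
      cokernel.condition, Functor.map_zero]
    rfl
  rw [h0]
  exact (map_zero (sp.app Q).hom).symm

theorem isML_eps [ProEtS.EpsCont X] (I : Ideal Λ) [IsArtinianRing (Λ ⧸ I)] (F : ARSys.PS (EtModW.Mod Λ X))
    (hk : ARSys.TermKilled I F) (hF : ∀ n : ℕ, EtModW.IsFTLocConst Λ (F.obj (op n))) :
    ARSys.IsML (F ⋙ EtModW.epsPullMod Λ X) := by
  haveI := preservesFiniteColimits_epsPullMod (Λ := Λ) (X := X)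
  haveI : (EtModW.epsPullMod Λ X).Additive := (EtTrivGen.epsAdjMod Λ X).left_adjoint_additive
  intro n
  obtain ⟨r, hr⟩ := exists_rng_stationary I F hk hF n
  refine ⟨r, fun s hs => ?_⟩
  rw [← ARLib.rng_eq, ← ARLib.rng_eq]
  exact le_antisymm
    (rng_map_le (EtModW.epsPullMod Λ X) _ _ (ARLib.rng_tr_anti F (Nat.le_add_right n r) (Nat.add_le_add_left hs n)))
    (rng_map_le (EtModW.epsPullMod Λ X) _ _ (hr s hs))

end Groth.Agent.ProEtLim
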