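import Groth.Agent.ProEtLim.RecollMod
import Groth.Agent.ProEtLim.Extension
import Groth.Agent.ProEtInv.Closed
import Groth.Agent.WContr.ProEtExact

/-!
Adic pro-etale sheaves under direct image along closed immersions and extension by zero along open immersions.
-/

set_option autoImplicit false
set_option backward.isDefEq.respectTransparency false
set_option backward.isDefEq.respectTransparency.types false
set_option linter.style.haveILetI false
set_option linter.unusedSectionVars false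
set_option maxHeartbeats 1600000
set_option synthInstance.maxHeartbeats 400000

universe u

open CategoryTheory CategoryTheory.Limits AlgebraicGeometry Opposite

noncomputable section

namespace Groth.Agent.ProEtLim.Recoll

open EpsLan (undP undE)
open EtTrivGen (epsPushMod epsAdjMod)
open Groth.Agent.ProEtInv

variable {Λ : Type (u + 1)} [CommRing Λ]

/-- adic sheaf, as an abbreviation of the statement form -/
abbrev IsTower {X : Scheme.{u}} [ProEtS.EpsCont X] (I : Ideal Λ) (F : EtModW.ModP Λ X) : Prop :=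
  ∃ (Q : ℕᵒᵖ ⥤ EtModW.ModP Λ X) (p : (Functor.const ℕᵒᵖ).obj F ⟶ Q),
    (∀ n : ℕ, ARSys.IsQuot (I ^ (n + 1)) (p.app (op n))) ∧
    (∀ n : ℕ, ∃ E : EtModW.Mod Λ X, EtModW.IsConstructible Λ E ∧
      Nonempty ((EtModW.epsPullMod Λ X).obj E ≅ Q.obj (op n))) ∧
    IsIso (limit.lift Q (Cone.mk F p))

theorem isTower_map {X Y : Scheme.{u}} [ProEtS.EpsCont X] [ProEtS.EpsCont Y] {I : Ideal Λ}
    (G : EtModW.ModP Λ X ⥤ EtModW.ModP Λ Y) [PreservesLimitsOfShape ℕᵒᵖ G]
    (hG : ∀ {F Q : EtModW.ModP Λ X} (J : Ideal Λ) (p : F ⟶ Q), ARSys.IsQuot J p → ARSys.IsQuot J (G.map p))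
    (hc : ∀ E : EtModW.Mod Λ X, EtModW.IsConstructible Λ E → ∃ E' : EtModW.Mod Λ Y, EtModW.IsConstructible Λ E' ∧
      Nonempty ((EtModW.epsPullMod Λ Y).obj E' ≅ G.obj ((EtModW.epsPullMod Λ X).obj E)))
    {F : EtModW.ModP Λ X} (hF : IsTower I F) : IsTower I (G.obj F) := by
  obtain ⟨Q, p, hp, hQ, hlim⟩ := hF
  let p' : (Functor.const ℕᵒᵖ).obj (G.obj F) ⟶ Q ⋙ G :=
    { app := fun n => G.map (p.app n)
      naturality := fun a b g => by
        refine (Category.id_comp _).trans ?_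
        change G.map (p.app b) = G.map (p.app a) ≫ G.map (Q.map g)
        rw [← G.map_comp, ← p.naturality g]
        exact congrArg G.map (Category.id_comp _).symm }
  refine ⟨Q ⋙ G, p', fun n => hG _ _ (hp n), fun n => ?_, ?_⟩
  · obtain ⟨E, hE, ⟨e⟩⟩ := hQ n
    obtain ⟨E', hE', ⟨e'⟩⟩ := hc E hE
    exact ⟨E', hE', ⟨e' ≪≫ G.mapIso e⟩⟩
  · have h : limit.lift (Q ⋙ G) (Cone.mk (G.obj F) p') = G.map (limit.lift Q (Cone.mk F p)) ≫ limit.post Q G :=
      limit.hom_ext fun n => by
        rw [limit.lift_π, Category.assoc, limit.post_π, ← G.map_comp, limit.lift_π]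
    rw [h]
    infer_instance

theorem isTower_of_iso {X : Scheme.{u}} [ProEtS.EpsCont X] {I : Ideal Λ} (hI : I.FG) {F F' : EtModW.ModP Λ X}
    (e : F ≅ F') (hF : IsTower I F) : IsTower I F' := by
  obtain ⟨G, hG, hc, ⟨e₀⟩⟩ := (exists_tower_iff hI F).1 hF
  exact (exists_tower_iff hI F').2 ⟨G, hG, hc, ⟨e₀ ≪≫ e⟩⟩

section Closed

variable {Z X : Scheme.{u}} (i : Z ⟶ X) [IsClosedImmersion i] [ProEtS.PCont i]

instance additive_pushM : (pushM (Λ := Λ) i).Additive where

instance linear_pushM : (pushM (Λ := Λ) i).Linear Λ where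

theorem isIso_counit_closedM : IsIso (pullPushMAdj (Λ := Λ) i).counit := by
  haveI := isCoverDense_bcP_closed i
  haveI := isLocallyFull_bcP_closed i
  haveI : (pushM (Λ := Λ) i).Full := inferInstance
  haveI : (pushM (Λ := Λ) i).Faithful := inferInstance
  infer_instance

theorem preservesLimitsOfShape_pushM (J : Type*) [Category J] : PreservesLimitsOfShape J (pushM (Λ := Λ) i) := by
  haveI := (pullPushMAdj (Λ := Λ) i).isRightAdjoint
  infer_instance

theorem eq_zero_of_pull (hret : IsRetrocompact (Set.range i.base)ᶜ) {K : EtModW.ModP Λ Z} {Y : EtModW.ModP Λ X}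
    (ψ : (pushM i).obj K ⟶ Y) (h : (pullM i).map ψ = 0) : ψ = 0 := by
  let U : X.Opens := ⟨(Set.range i.base)ᶜ, i.isClosedEmbedding.isClosed_range.isOpen_compl⟩
  haveI : QuasiCompact U.ι := quasiCompact_iff_isSpectralMap.mpr (IsRetrocompact_iff_isSpectralMap_subtypeVal.mp hret)
  have hc : Set.range U.ι = (Set.range i)ᶜ := Scheme.Opens.range_ι U
  have hψ : ψ ≫ (pullPushMAdj i).unit.app Y = 0 := by
    have hn := (pullPushMAdj (Λ := Λ) i).unit.naturality ψ
    refine hn.trans ?_
    change _ ≫ (pushM i).map ((pullM i).map ψ) = 0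
    rw [h, Functor.map_zero, comp_zero]
  refine Sheaf.hom_ext (NatTrans.ext (funext fun V => ModuleCat.hom_ext (LinearMap.ext fun x => ?_)))
  have hY : Presieve.IsSheaf (Scheme.ProEt.topology X) (Y.obj ⋙ forget (ModuleCat.{u + 1} Λ)) :=
    (isSheaf_iff_isSheaf_of_type _ _).1 ((sheafCompose _ (forget (ModuleCat.{u + 1} Λ))).obj Y).property
  let R : Sieve V.unop :=
    { arrows := fun W c => secMap ψ W (((pushM i).obj K).obj.map c.op x) = 0
      downward_closed := fun {W W'} c hcc g => by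
        change secMap ψ W' (((pushM i).obj K).obj.map (g ≫ c).op x) = 0
        rw [op_comp, Functor.map_comp, ConcreteCategory.comp_apply]
        refine (NatTrans.naturality_apply ψ.hom g.op _).trans ?_
        rw [show ψ.hom.app (op W) (((pushM i).obj K).obj.map c.op x) = 0 from hcc, map_zero] }
  refine (hY R (mem_of_open_of_pairs i U.ι hc R (fun W c hW => ?_) fun C₀ T₀ toG c hp => ?_)).isSeparatedFor.ext
    fun W c hcc => ?_
  · haveI : IsEmpty ((ProEtS.bcP i).obj W).left := ⟨fun p => by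
      have h1 := congrArg (fun m => m p) (pullback.condition (f := W.hom) (g := i))
      exact (Set.mem_compl_iff _ _).1 (hc.le (hW ⟨pullback.fst W.hom i p, h1⟩)) ⟨_, rfl⟩⟩
    haveI := subsingleton_sections_of_isEmpty K ((ProEtS.bcP i).obj W)
    have hz : ((pushM i).obj K).obj.map c.op x = 0 :=
      Subsingleton.elim (α := K.obj.obj (op ((ProEtS.bcP i).obj W))) _ _
    exact (congrArg (secMap ψ W) hz).trans (map_zero _)
  · apply (bijective_unit_pair (Λ := Λ) i hp Y).1
    dsimp only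
    rw [map_zero, map_zero]
    have e : ((pullPushMAdj i).unit.app Y).hom.app (op C₀) (secMap ψ C₀ (((pushM i).obj K).obj.map c.op x)) = 0 :=
      congrArg (fun φ => secMap φ C₀ (((pushM i).obj K).obj.map c.op x)) hψ
    rw [e]
    exact map_zero _
  · change Y.obj.map c.op (ψ.hom.app V x) = Y.obj.map c.op 0
    rw [map_zero]
    exact (NatTrans.naturality_apply ψ.hom c.op x).symm.trans hcc

theorem epi_pushM (hret : IsRetrocompact (Set.range i.base)ᶜ) {F G : EtModW.ModP Λ Z} (φ : F ⟶ G) [Epi φ] :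
    Epi ((pushM i).map φ) := by
  haveI : Sheaf.IsLocallySurjective φ :=
    (Sheaf.isLocallySurjective_iff_epi' (ModuleCat.{u + 1} Λ) φ).2 inferInstance
  haveI : Sheaf.IsLocallySurjective ((undP Λ).map φ) :=
    ⟨fun s => Presheaf.imageSieve_mem (Scheme.ProEt.topology Z) φ.hom s⟩
  haveI : Epi ((undP Λ).map φ) := (Sheaf.isLocallySurjective_iff_epi' AddCommGrpCat.{u + 1} _).1 inferInstance
  haveI := (WContr.exact_pushP_closed i hret).2
  haveI : Epi ((ProEtS.pushP i).map ((undP Λ).map φ)) := inferInstance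
  haveI : Sheaf.IsLocallySurjective ((ProEtS.pushP i).map ((undP Λ).map φ)) :=
    (Sheaf.isLocallySurjective_iff_epi' AddCommGrpCat.{u + 1} _).2 inferInstance
  haveI : Sheaf.IsLocallySurjective ((pushM i).map φ) :=
    ⟨fun s => Presheaf.imageSieve_mem (Scheme.ProEt.topology X) ((ProEtS.pushP i).map ((undP Λ).map φ)).hom s⟩
  exact (Sheaf.isLocallySurjective_iff_epi' (ModuleCat.{u + 1} Λ) _).1 inferInstance

theorem isQuot_pushM (hret : IsRetrocompact (Set.range i.base)ᶜ) {F Q : EtModW.ModP Λ Z} {J : Ideal Λ} {p : F ⟶ Q}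
    (hp : ARSys.IsQuot J p) : ARSys.IsQuot J ((pushM i).map p) := by
  haveI : Epi p := ⟨fun g h e => EtTrivGen.IsQuot.hom_ext hp e⟩
  haveI := epi_pushM i hret p
  haveI := isIso_counit_closedM (Λ := Λ) i
  haveI : PreservesLimit (parallelPair p 0) (pushM (Λ := Λ) i) :=
    (preservesLimitsOfShape_pushM i _).preservesLimit
  refine ⟨fun b hb => ?_, fun Y φ hφ => ?_⟩
  · rw [← CategoryTheory.Functor.map_id, ← Functor.map_smul, hp.1 b hb, Functor.map_zero]
  · let adj := pullPushMAdj (Λ := Λ) i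
    haveI := adj.left_adjoint_additive
    have hφ' : ARSys.HomKilledBy J (inv (adj.counit.app F) ≫ (pullM i).map φ) := fun b hb => by
      rw [← Linear.comp_smul, ← EtTrivGen.adj_map_smul adj, hφ b hb, (pullM i).map_zero, comp_zero]
    obtain ⟨ψ, hψ, -⟩ := hp.2 _ _ hφ'
    have h0 : (pushM i).map (kernel.ι p) ≫ φ = 0 := eq_zero_of_pull i hret _ (by
      have hn : (pullM i).map ((pushM i).map (kernel.ι p)) =
          adj.counit.app (kernel p) ≫ kernel.ι p ≫ inv (adj.counit.app F) := by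
        rw [← Category.assoc, IsIso.eq_comp_inv]
        exact adj.counit.naturality (kernel.ι p)
      rw [Functor.map_comp, hn, Category.assoc, Category.assoc, ← hψ, kernel.condition_assoc, zero_comp, comp_zero])
    have hk : kernel.ι ((pushM i).map p) ≫ φ = 0 := by
      rw [← PreservesKernel.iso_inv_ι, Category.assoc, h0, comp_zero]
    exact ⟨Abelian.epiDesc _ φ hk, Abelian.comp_epiDesc _ _ _,
      fun ψ' h' => (cancel_epi ((pushM i).map p)).1 (h'.trans (Abelian.comp_epiDesc _ _ _).symm)⟩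

theorem nonempty_eps_pushM [ProEtS.EpsCont Z] [ProEtS.EpsCont X] (E : EtModW.Mod Λ Z) :
    Nonempty ((EtModW.epsPullMod Λ X).obj ((EtModW.push Λ i).obj E) ≅ (pushM i).obj ((EtModW.epsPullMod Λ Z).obj E)) := by
  let A := (pushM i).obj ((EtModW.epsPullMod Λ Z).obj E)
  let c := (epsAdjMod Λ X).counit.app A
  haveI : IsIso ((epsPushMod Λ X).map c) :=
    IsIso.of_isIso_fac_left ((epsAdjMod Λ X).right_triangle_components A)
  haveI h1 : IsIso ((ProEtS.epsPush X).map ((undP Λ).map c)) :=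
    inferInstanceAs (IsIso ((undE Λ).map ((epsPushMod Λ X).map c)))
  obtain ⟨eB⟩ := EpsLan.nonempty_undP_pull Λ ((epsPushMod Λ X).obj A)
  obtain ⟨eE⟩ := EpsLan.nonempty_undP_pull Λ E
  let eA : (undP Λ).obj A ≅ (ProEtS.epsPull X).obj ((EtCoh.push i).obj ((undE Λ).obj E)) :=
    (ProEtS.pushP i).mapIso eE ≪≫ ((EpsLan.pushPullIso i).app _).symm
  haveI : ∀ F, IsIso ((ProEtS.epsAdj X).unit.app F) := fun F => EpsLan.isIso_unit F
  have hc : ∀ {P : ProEtS.AbP X} (G : EtCoh.Ab X), (P ≅ (ProEtS.epsPull X).obj G) →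
      IsIso ((ProEtS.epsAdj X).counit.app P) := fun G e => by
    have h0 : IsIso ((ProEtS.epsAdj X).counit.app ((ProEtS.epsPull X).obj G)) :=
      IsIso.of_isIso_fac_left ((ProEtS.epsAdj X).left_triangle_components G)
    exact (NatTrans.isIso_app_iff_of_iso (ProEtS.epsAdj X).counit e).2 h0
  haveI hB : IsIso ((ProEtS.epsAdj X).counit.app ((undP Λ).obj ((epsPushMod Λ X ⋙ EtModW.epsPullMod Λ X).obj A))) :=
    hc _ eB
  haveI hA : IsIso ((ProEtS.epsAdj X).counit.app ((undP Λ).obj ((𝟭 (EtModW.ModP Λ X)).obj A))) := hc _ eA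
  haveI : IsIso ((ProEtS.epsPush X ⋙ ProEtS.epsPull X).map ((undP Λ).map c)) :=
    inferInstanceAs (IsIso ((ProEtS.epsPull X).map ((ProEtS.epsPush X).map ((undP Λ).map c))))
  haveI : IsIso ((undP Λ).map c) := IsIso.of_isIso_fac_left ((ProEtS.epsAdj X).counit.naturality ((undP Λ).map c)).symm
  haveI : IsIso c := by
    haveI : Sheaf.IsLocallyInjective c :=
      ⟨fun a b h => Presheaf.equalizerSieve_mem (Scheme.ProEt.topology X) ((undP Λ).map c).hom a b h⟩
    haveI : Sheaf.IsLocallySurjective c :=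
      ⟨fun s => Presheaf.imageSieve_mem (Scheme.ProEt.topology X) ((undP Λ).map c).hom s⟩
    exact (Sheaf.isLocallyBijective_iff_isIso (A := ModuleCat.{u + 1} Λ) c).1 ⟨inferInstance, inferInstance⟩
  exact ⟨(EtModW.epsPullMod Λ X).mapIso ((EtModW.push Λ i).mapIso (asIso ((epsAdjMod Λ Z).unit.app E)) ≪≫
    (EtTrivGen.pushEpsMod Λ i).app _) ≪≫ asIso c⟩

theorem isTower_pushM [ProEtS.EpsCont Z] [ProEtS.EpsCont X] (hret : IsRetrocompact (Set.range i.base)ᶜ)
    (hpush : ∀ E : EtModW.Mod Λ Z, EtModW.IsConstructible Λ E → EtModW.IsConstructible Λ ((EtModW.push Λ i).obj E))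
    {I : Ideal Λ} {F : EtModW.ModP Λ Z} (hF : IsTower I F) : IsTower I ((pushM i).obj F) := by
  haveI := preservesLimitsOfShape_pushM (Λ := Λ) i ℕᵒᵖ
  exact isTower_map (pushM i) (fun J p hp => isQuot_pushM i hret hp)
    (fun E hE => ⟨_, hpush E hE, nonempty_eps_pushM i E⟩) hF

end Closed

section Open

variable {U X : Scheme.{u}} (j : U ⟶ X) [IsOpenImmersion j] [QuasiCompact j] [ProEtS.JPCont j]

instance additive_restrM : (restrM (Λ := Λ) j).Additive where

instance linear_restrM : (restrM (Λ := Λ) j).Linear Λ where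

/-- restriction is left adjoint to direct image -/
def restrPushMAdj [ProEtS.PCont j] : restrM (Λ := Λ) j ⊣ pushM j :=
  (Adjunction.whiskerLeft (ModuleCat.{u + 1} Λ) (compBcAdj j).op).restrictFullyFaithful
    (fullyFaithfulSheafToPresheaf _ _) (fullyFaithfulSheafToPresheaf _ _) (Iso.refl _) (Iso.refl _)

/-- inverse image along an open immersion is restriction -/
def pullRestrMIso [ProEtS.PCont j] : pullM (Λ := Λ) j ≅ restrM j :=
  (pullPushMAdj j).leftAdjointUniq (restrPushMAdj j)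

theorem preservesLimitsOfShape_extZeroM : PreservesLimitsOfShape ℕᵒᵖ (extZeroM (Λ := Λ) j) := by
  let Zc : TopologicalSpace.Closeds X := ⟨(Set.range j)ᶜ, j.isOpenEmbedding.isOpen_range.isClosed_compl⟩
  let I : X.IdealSheafData := Scheme.IdealSheafData.vanishingIdeal Zc
  let ι := I.subschemeι
  haveI : ProEtS.PCont ι := Groth.Agent.ProEtCont.pCont ι
  haveI : ProEtS.PCont j := Groth.Agent.ProEtCont.pCont j
  have hr : Set.range ι = (Set.range j)ᶜ := by
    rw [Scheme.IdealSheafData.range_subschemeι, Scheme.IdealSheafData.coe_support_vanishingIdeal]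
    rfl
  have hc : Set.range j = (Set.range ι)ᶜ := by rw [hr, compl_compl]
  have hUZ : Disjoint (Set.range j) (Set.range ι) := hr ▸ disjoint_compl_right
  refine ⟨fun {K} => ?_⟩
  let L := extZeroM (Λ := Λ) j
  haveI : IsIso (extZeroMAdj (Λ := Λ) j).unit := (isIso_unit_counit_open j).1
  haveI : PreservesLimitsOfShape ℕᵒᵖ (L ⋙ restrM j) :=
    preservesLimitsOfShape_of_natIso (asIso (extZeroMAdj (Λ := Λ) j).unit)
  haveI : (restrM (Λ := Λ) j).IsRightAdjoint := (extZeroMAdj j).isRightAdjoint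
  haveI : PreservesLimitsOfShape ℕᵒᵖ (restrM (Λ := Λ) j) := inferInstance
  haveI : IsIso ((restrM j).map (limit.post K L)) := by
    have h1 := limit.post_post K L (restrM j)
    haveI : IsIso ((restrM j).map (limit.post K L) ≫ limit.post (K ⋙ L) (restrM j)) := by
      rw [h1]; infer_instance
    exact IsIso.of_isIso_comp_right _ (limit.post (K ⋙ L) (restrM j))
  haveI : IsIso (limit.post K L) := isIso_of_bijective_open_pairs ι j hc _ fun C₀ T₀ toG h => by
    haveI h0 := subsingleton_extZero_pair ι j hUZ h (limit K)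
    haveI h1 : ∀ n : ℕ, Subsingleton ((L.obj (K.obj (op n))).obj.obj (op C₀)) := fun n =>
      subsingleton_extZero_pair ι j hUZ h (K.obj (op n))
    refine ⟨fun a b _ => Subsingleton.elim (h := h0) a b, fun b => ⟨0, ?_⟩⟩
    rw [map_zero]
    exact (sec_ext (K ⋙ L) C₀ b fun n => Subsingleton.elim (h := h1 n) _ _).symm
  exact preservesLimit_of_isIso_post L K

theorem nonempty_eps_extZeroM [ProEtS.EpsCont U] [ProEtS.EpsCont X] [hje : Etale j] [WeaklyEtale j]
    [(MorphismProperty.Over.map (P := EtCoh.etaleMP.{u}) ⊤ (f := j) hje).IsContinuous U.smallEtaleTopology X.smallEtaleTopology]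
    [((MorphismProperty.Over.map (P := EtCoh.etaleMP.{u}) ⊤ (f := j) hje).sheafPushforwardContinuous (ModuleCat.{u + 1} Λ) U.smallEtaleTopology X.smallEtaleTopology).IsRightAdjoint]
    (E : EtModW.Mod Λ U) :
    Nonempty ((EtModW.epsPullMod Λ X).obj (((MorphismProperty.Over.map (P := EtCoh.etaleMP.{u}) ⊤ (f := j) hje).sheafPullback
      (ModuleCat.{u + 1} Λ) U.smallEtaleTopology X.smallEtaleTopology).obj E) ≅
        (extZeroM j).obj ((EtModW.epsPullMod Λ U).obj E)) := by
  let M := MorphismProperty.Over.map (P := EtCoh.etaleMP.{u}) ⊤ (f := j) hje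
  let φ : M ⋙ ProEtS.eps X ≅ ProEtS.eps U ⋙ ProEtS.compP j :=
    NatIso.ofComponents (fun V => MorphismProperty.Over.isoMk (Iso.refl _) (Category.id_comp _))
      (fun {V W} f => MorphismProperty.Over.Hom.ext ((Category.comp_id _).trans (Category.id_comp _).symm))
  let e : restrM (Λ := Λ) j ⋙ epsPushMod Λ U ≅ epsPushMod Λ X ⋙
      M.sheafPushforwardContinuous (ModuleCat.{u + 1} Λ) U.smallEtaleTopology X.smallEtaleTopology :=
    NatIso.ofComponents
      (fun F => ObjectProperty.isoMk _ (Functor.isoWhiskerRight (NatIso.op φ) F.obj))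
      (fun {F G} a => Sheaf.hom_ext (NatTrans.ext (funext fun V =>
        (a.hom.naturality ((NatIso.op φ).hom.app V)).symm)))
  exact ⟨(Adjunction.leftAdjointUniq ((M.sheafAdjunctionContinuous (ModuleCat.{u + 1} Λ) U.smallEtaleTopology
    X.smallEtaleTopology).comp (epsAdjMod Λ X))
    (((epsAdjMod Λ U).comp (extZeroMAdj j)).ofNatIsoRight e)).app E⟩

theorem isTower_extZeroM [ProEtS.EpsCont U] [ProEtS.EpsCont X] [hje : Etale j] [WeaklyEtale j]
    [(MorphismProperty.Over.map (P := EtCoh.etaleMP.{u}) ⊤ (f := j) hje).IsContinuous U.smallEtaleTopology X.smallEtaleTopology]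
    [((MorphismProperty.Over.map (P := EtCoh.etaleMP.{u}) ⊤ (f := j) hje).sheafPushforwardContinuous (ModuleCat.{u + 1} Λ) U.smallEtaleTopology X.smallEtaleTopology).IsRightAdjoint]
    (hext : ∀ E : EtModW.Mod Λ U, EtModW.IsConstructible Λ E →
      EtModW.IsConstructible Λ (((MorphismProperty.Over.map (P := EtCoh.etaleMP.{u}) ⊤ (f := j) hje).sheafPullback
        (ModuleCat.{u + 1} Λ) U.smallEtaleTopology X.smallEtaleTopology).obj E))
    {I : Ideal Λ} {F : EtModW.ModP Λ U} (hF : IsTower I F) : IsTower I ((extZeroM j).obj F) := by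
  haveI := preservesLimitsOfShape_extZeroM (Λ := Λ) j
  exact isTower_map (extZeroM j) (fun J p hp => EtTrivGen.isQuot_map (extZeroMAdj j) hp)
    (fun E hE => ⟨_, hext E hE, nonempty_eps_extZeroM j E⟩) hF

end Open

theorem isTower_X₂ [IsNoetherianRing Λ] {X : Scheme.{u}} [IsNoetherian X] [ProEtS.EpsCont X] {a : Λ}
    {S : ShortComplex (EtModW.ModP Λ X)} (hS : S.ShortExact) (h₁ : IsTower (Ideal.span {a}) S.X₁)
    (h₃ : IsTower (Ideal.span {a}) S.X₃) : IsTower (Ideal.span {a}) S.X₂ := by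
  have hI : (Ideal.span {a} : Ideal Λ).FG := Submodule.fg_span (Set.finite_singleton a)
  obtain ⟨G₁, hG₁, c₁, ⟨e₁⟩⟩ := (exists_tower_iff hI S.X₁).1 h₁
  obtain ⟨G₃, hG₃, c₃, ⟨e₃⟩⟩ := (exists_tower_iff hI S.X₃).1 h₃
  exact ⟨quoSys a S.X₂, quoπ a S.X₂, exists_tower_of_shortExact hG₁ c₁ hG₃ c₃ hS e₁ e₃⟩

theorem isTower_of_recollement [IsNoetherianRing Λ] {U Z X : Scheme.{u}} [IsNoetherian X]
    [ProEtS.EpsCont X] {a : Λ} (j : U ⟶ X) [IsOpenImmersion j] [QuasiCompact j] [ProEtS.JPCont j]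
    (i : Z ⟶ X) [IsClosedImmersion i] [ProEtS.PCont i] (hc : Set.range j = (Set.range i)ᶜ) (F : EtModW.ModP Λ X)
    (h₁ : IsTower (Ideal.span {a}) ((extZeroM j).obj ((restrM j).obj F)))
    (h₃ : IsTower (Ideal.span {a}) ((pushM i).obj ((pullM i).obj F))) : IsTower (Ideal.span {a}) F :=
  isTower_X₂ (exists_shortExact (Λ := Λ) i j hc F).choose_spec h₁ h₃

end Groth.Agent.ProEtLim.Recoll
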