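import Groth.Agent.WContr.DCSite
import Groth.Agent.ProEtLim.Algebra
import Groth.Agent.EtTrivGen.AdicPoly

/-!
Limits of sequences of pro-etale sheaves of modules on weakly contractible objects.
-/

set_option autoImplicit false
set_option backward.isDefEq.respectTransparency false
set_option backward.isDefEq.respectTransparency.types false
set_option linter.style.haveILetI false
set_option linter.unusedSectionVars false
set_option maxHeartbeats 1000000
set_option synthInstance.maxHeartbeats 200000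

universe u

open CategoryTheory CategoryTheory.Limits AlgebraicGeometry Opposite

noncomputable section

namespace Groth.Agent.ProEtLim

open WContr.DC

variable {Λ : Type (u + 1)} [CommRing Λ] {X : Scheme.{u}}

/-- maps on sections -/
abbrev secMap {F G : EtModW.ModP Λ X} (φ : F ⟶ G) (U : X.ProEt) :
    (F.obj.obj (op U) : Type (u + 1)) →ₗ[Λ] G.obj.obj (op U) :=
  (φ.hom.app (op U)).hom

theorem secMap_comp {F G H : EtModW.ModP Λ X} (φ : F ⟶ G) (ψ : G ⟶ H) (U : X.ProEt) (x : F.obj.obj (op U)) :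
    secMap (φ ≫ ψ) U x = secMap ψ U (secMap φ U x) := rfl

theorem secMap_smul_id {F : EtModW.ModP Λ X} (a : Λ) (U : X.ProEt) (x : F.obj.obj (op U)) :
    secMap (a • 𝟙 F) U x = a • x := rfl

instance isRightAdjoint_secF (U : X.ProEt) : (secF (Λ := Λ) U).IsRightAdjoint := (freeAdj (Λ := Λ) U).isRightAdjoint

theorem secMap_surjective {F G : EtModW.ModP Λ X} (φ : F ⟶ G) [Epi φ] {U : X.ProEt} (hU : ProEtS.IsWC U) :
    Function.Surjective (secMap φ U) :=
  Groth.Agent.S14017.surjective_of_epi φ U hU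

theorem epi_of_secMap_surjective {F G : EtModW.ModP Λ X} (φ : F ⟶ G)
    (h : ∀ U : X.ProEt, ProEtS.IsWC U → Function.Surjective (secMap φ U)) : Epi φ := by
  haveI : Sheaf.IsLocallySurjective φ := ⟨fun {U} s => by
    obtain ⟨S, hS, hcov⟩ := exists_wc_cover U
    refine (Scheme.ProEt.topology X).superset_covering ?_ hS
    intro V g hg
    obtain ⟨W, a, b, rfl, hW⟩ := hcov g hg
    obtain ⟨t, ht⟩ := h W hW (G.obj.map b.op s)
    refine ⟨F.obj.map a.op t, ?_⟩
    rw [op_comp, Functor.map_comp, ConcreteCategory.comp_apply, ← ht]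
    exact NatTrans.naturality_apply φ.hom a.op t⟩
  exact (Sheaf.isLocallySurjective_iff_epi' (ModuleCat.{u + 1} Λ) φ).1 inferInstance

theorem secMap_injective {F G : EtModW.ModP Λ X} (φ : F ⟶ G) [Mono φ] (U : X.ProEt) :
    Function.Injective (secMap φ U) := by
  haveI : (secF (Λ := Λ) U).PreservesMonomorphisms := inferInstance
  exact (ModuleCat.mono_iff_injective ((secF (Λ := Λ) U).map φ)).1 inferInstance

theorem exists_sec_of_kernel {F G : EtModW.ModP Λ X} (φ : F ⟶ G) (U : X.ProEt) (x : F.obj.obj (op U))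
    (hx : secMap φ U x = 0) : ∃ y, secMap (kernel.ι φ) U y = x := by
  let S := secF (Λ := Λ) U
  have hw : ModuleCat.ofHom (LinearMap.toSpanSingleton Λ (S.obj F) x) ≫ S.map φ = 0 :=
    ModuleCat.hom_ext (LinearMap.ext_ring (by
      change secMap φ U ((1 : Λ) • x) = 0
      rw [one_smul, hx]))
  obtain ⟨l, hl⟩ := KernelFork.IsLimit.lift' (KernelFork.mapIsLimit _ (kernelIsKernel φ) S) _ hw
  refine ⟨l (1 : Λ), ?_⟩
  have h1 := ConcreteCategory.congr_hom hl (1 : Λ)
  rw [ConcreteCategory.comp_apply] at h1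
  exact h1.trans (one_smul Λ x)

variable (Q : ℕᵒᵖ ⥤ EtModW.ModP Λ X) [HasLimit Q]

/-- projections from the limit, on sections -/
abbrev secπ (U : X.ProEt) (n : ℕ) : ((limit Q).obj.obj (op U) : Type (u + 1)) →ₗ[Λ] (Q.obj (op n)).obj.obj (op U) :=
  secMap (limit.π Q (op n)) U

theorem secπ_tr (U : X.ProEt) {n m : ℕ} (h : n ≤ m) (x : (limit Q).obj.obj (op U)) :
    secMap (ARSys.tr Q h) U (secπ Q U m x) = secπ Q U n x := by
  rw [← secMap_comp, limit.w]

theorem exists_family (U : X.ProEt) (y : ∀ n : ℕ, (Q.obj (op n)).obj.obj (op U))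
    (hy : ∀ n, secMap (ARSys.tr Q (Nat.le_succ n)) U (y (n + 1)) = y n) :
    ∃ x, ∀ n, secπ Q U n x = y n := by
  have hy' : ∀ n m (h : n ≤ m), secMap (ARSys.tr Q h) U (y m) = y n := by
    intro n m h
    induction m, h using Nat.le_induction with
    | base =>
      rw [show ARSys.tr Q (le_refl n) = 𝟙 _ from Q.map_id (op n)]
      rfl
    | succ m h ih => rw [← EtTrivGen.tr_tr Q h (Nat.le_succ m), secMap_comp, hy, ih]
  let S := secF (Λ := Λ) U
  let hl := isLimitOfPreserves S (limit.isLimit Q)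
  let c : Cone (Q ⋙ S) :=
    { pt := ModuleCat.of Λ Λ
      π := { app := fun n => ModuleCat.ofHom (LinearMap.toSpanSingleton Λ (S.obj (Q.obj n)) (y n.unop))
             naturality := fun a b g => ModuleCat.hom_ext (LinearMap.ext_ring (by
               change (1 : Λ) • y b.unop = secMap (Q.map g) U ((1 : Λ) • y a.unop)
               rw [one_smul, one_smul]
               exact (hy' b.unop a.unop g.unop.le).symm)) } }
  refine ⟨hl.lift c (1 : Λ), fun n => ?_⟩
  have h1 := ConcreteCategory.congr_hom (hl.fac c (op n)) (1 : Λ)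
  rw [ConcreteCategory.comp_apply] at h1
  exact h1.trans (one_smul Λ (y n))

theorem sec_ext (U : X.ProEt) (x : (limit Q).obj.obj (op U)) (h : ∀ n, secπ Q U n x = 0) : x = 0 := by
  let S := secF (Λ := Λ) U
  let hl := isLimitOfPreserves S (limit.isLimit Q)
  have e : ModuleCat.ofHom (LinearMap.toSpanSingleton Λ (S.obj (limit Q)) x) = 0 :=
    hl.hom_ext fun n => ModuleCat.hom_ext (LinearMap.ext_ring (by
      rw [zero_comp]
      change secπ Q U n.unop ((1 : Λ) • x) = 0
      rw [one_smul, h]))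
  have h1 := ConcreteCategory.congr_hom e (1 : Λ)
  change (1 : Λ) • x = 0 at h1
  rwa [one_smul] at h1

theorem secπ_surjective (hQ : ARSys.IsStrict Q) {U : X.ProEt} (hU : ProEtS.IsWC U) (n : ℕ) :
    Function.Surjective (secπ Q U n) := by
  intro v
  have hs : ∀ m, Function.Surjective (secMap (ARSys.tr Q (Nat.le_succ m)) U) := fun m => by
    haveI := hQ m (m + 1) (Nat.le_succ m)
    exact secMap_surjective _ hU
  choose g hg using fun m => hs m
  let t : ∀ k, (Q.obj (op (n + k))).obj.obj (op U) := fun k => Nat.rec v (fun j w => g (n + j) w) k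
  let y : ∀ m, (Q.obj (op m)).obj.obj (op U) := fun m => secMap (ARSys.tr Q (Nat.le_add_left m n)) U (t m)
  obtain ⟨x, hx⟩ := exists_family Q U y fun m => by
    change secMap _ U (secMap (ARSys.tr Q (Nat.le_add_left (m + 1) n)) U (g (n + m) (t m))) = _
    rw [← secMap_comp, EtTrivGen.tr_tr, ← EtTrivGen.tr_tr Q (Nat.le_add_left m n) (Nat.le_succ (n + m)), secMap_comp]
    exact congrArg _ (hg (n + m) (t m))
  refine ⟨x, (hx n).trans ?_⟩
  have key : ∀ k, secMap (ARSys.tr Q (Nat.le_add_right n k)) U (t k) = v := by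
    intro k
    induction k with
    | zero =>
      rw [show ARSys.tr Q (Nat.le_add_right n 0) = 𝟙 _ from Q.map_id (op n)]
      rfl
    | succ k ih =>
      rw [← EtTrivGen.tr_tr Q (Nat.le_add_right n k) (Nat.le_succ (n + k)), secMap_comp]
      exact (congrArg _ (hg (n + k) (t k))).trans ih
  exact key n

theorem epi_limit_π (hQ : ARSys.IsStrict Q) (n : ℕ) : Epi (limit.π Q (op n)) :=
  epi_of_secMap_surjective _ fun _ hU => secπ_surjective Q hQ hU n

end Groth.Agent.ProEtLim
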