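import Groth.Agent.ProEtInv.Recollement
import Groth.Agent.ProEtLim.Sections
import Groth.Agent.EtTrivGen.EpsAdic

/-!
Recollement for pro-etale sheaves of modules: sections of inverse images on lift pairs, extension by zero.
-/

set_option autoImplicit false
set_option linter.style.haveILetI false
set_option linter.unusedSectionVars false
set_option backward.isDefEq.respectTransparency false
set_option maxHeartbeats 1600000
set_option synthInstance.maxHeartbeats 400000

universe u

open CategoryTheory CategoryTheory.Limits AlgebraicGeometry Opposite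

noncomputable section

namespace Groth.Agent.ProEtLim.Recoll

open Groth.Agent.WContr Groth.Agent.ProEtInv

variable {Λ : Type (u + 1)} [CommRing Λ]

/-- extension by zero -/
abbrev extZeroM {U X : Scheme.{u}} (j : U ⟶ X) [WeaklyEtale j] [ProEtS.JPCont j] :
    EtModW.ModP Λ U ⥤ EtModW.ModP Λ X :=
  (ProEtS.compP j).sheafPullback (ModuleCat.{u + 1} Λ) (Scheme.ProEt.topology U) (Scheme.ProEt.topology X)

/-- restriction -/
abbrev restrM {U X : Scheme.{u}} (j : U ⟶ X) [WeaklyEtale j] [ProEtS.JPCont j] :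
    EtModW.ModP Λ X ⥤ EtModW.ModP Λ U :=
  (ProEtS.compP j).sheafPushforwardContinuous (ModuleCat.{u + 1} Λ) (Scheme.ProEt.topology U) (Scheme.ProEt.topology X)

/-- the adjunction -/
abbrev extZeroMAdj {U X : Scheme.{u}} (j : U ⟶ X) [WeaklyEtale j] [ProEtS.JPCont j] :
    extZeroM (Λ := Λ) j ⊣ restrM j :=
  (ProEtS.compP j).sheafAdjunctionContinuous (ModuleCat.{u + 1} Λ) (Scheme.ProEt.topology U) (Scheme.ProEt.topology X)

/-- inverse image -/
abbrev pullM {Z X : Scheme.{u}} (i : Z ⟶ X) [ProEtS.PCont i] : EtModW.ModP Λ X ⥤ EtModW.ModP Λ Z :=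
  (ProEtS.bcP i).sheafPullback (ModuleCat.{u + 1} Λ) (Scheme.ProEt.topology X) (Scheme.ProEt.topology Z)

/-- direct image -/
abbrev pushM {Z X : Scheme.{u}} (i : Z ⟶ X) [ProEtS.PCont i] : EtModW.ModP Λ Z ⥤ EtModW.ModP Λ X :=
  (ProEtS.bcP i).sheafPushforwardContinuous (ModuleCat.{u + 1} Λ) (Scheme.ProEt.topology X) (Scheme.ProEt.topology Z)

/-- the adjunction -/
abbrev pullPushMAdj {Z X : Scheme.{u}} (i : Z ⟶ X) [ProEtS.PCont i] : pullM (Λ := Λ) i ⊣ pushM i :=
  (ProEtS.bcP i).sheafAdjunctionContinuous (ModuleCat.{u + 1} Λ) (Scheme.ProEt.topology X) (Scheme.ProEt.topology Z)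

section Eval

variable {Z X : Scheme.{u}} {i : Z ⟶ X}

theorem bijective_toSheafify_ab {Y : Scheme.{u}} (P : (Y.ProEt)ᵒᵖ ⥤ (ModuleCat.{u + 1} Λ)) (W : Y.ProEt)
    (h : Decomposable W) (hP : SplitsAt (P ⋙ forget (ModuleCat.{u + 1} Λ)) W) :
    Function.Bijective ((toSheafify (Scheme.ProEt.topology Y) P).app (op W)) := by
  let J := Scheme.ProEt.topology Y
  let η := toSheafify J P
  have hnat : ∀ {V V' : Y.ProEt} (g : V' ⟶ V) (a : P.obj (op V)),
      η.app (op V') (P.map g.op a) = (sheafify J P).map g.op (η.app (op V) a) := fun g a =>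
    NatTrans.naturality_apply η g.op a
  constructor
  · intro a b hab
    haveI : Presheaf.IsLocallyInjective J η := inferInstance
    obtain ⟨n, O, -, hd, hc, hR⟩ := h _ (Presheaf.equalizerSieve_mem J η a b hab)
    exact (hP n O hd hc fun k => P.map (pieceHom W (O k)).op a).unique (fun k => rfl)
      fun k => (hR k).symm
  · intro s
    haveI : Presheaf.IsLocallySurjective J η := inferInstance
    obtain ⟨n, O, -, hd, hc, hR⟩ := h _ (Presheaf.imageSieve_mem J η s)
    choose t ht using hR
    obtain ⟨a, ha, -⟩ := hP n O hd hc t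
    have hsh : Presieve.IsSheaf J (((presheafToSheaf J (ModuleCat.{u + 1} Λ)).obj P).obj ⋙ forget _) :=
      (isSheaf_iff_isSheaf_of_type _ _).1 ((sheafCompose J (forget (ModuleCat.{u + 1} Λ))).obj
        ((presheafToSheaf J (ModuleCat.{u + 1} Λ)).obj P)).property
    refine ⟨a, (existsUnique_glue hsh O hd hc
      fun k => (sheafify J P).map (pieceHom W (O k)).op s).unique (fun k => ?_) fun k => rfl⟩
    show (sheafify J P).map (pieceHom W (O k)).op (η.app (op W) a) = _
    rw [← hnat, show P.map (pieceHom W (O k)).op a = t k from ha k]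
    exact ht k


variable (i)

/-- sections of the constructed inverse image over a lift pair -/
noncomputable def evalHom [ProEtS.PCont i] {C₀ : X.ProEt} {T₀ : Z.ProEt} (toG : T₀ ⟶ (ProEtS.bcP i).obj C₀) :
    sheafToPresheaf (Scheme.ProEt.topology X) (ModuleCat.{u + 1} Λ) ⋙ (evaluation _ _).obj (op C₀) ⟶
      Functor.sheafPullbackConstruction.sheafPullback (ProEtS.bcP i) (ModuleCat.{u + 1} Λ)
        (Scheme.ProEt.topology X) (Scheme.ProEt.topology Z) ⋙
        sheafToPresheaf _ _ ⋙ (evaluation _ _).obj (op T₀) where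
  app F := ((ProEtS.bcP i).op.lanUnit.app F.obj).app (op C₀) ≫
    ((ProEtS.bcP i).op.lan.obj F.obj).map toG.op ≫
      (toSheafify (Scheme.ProEt.topology Z) ((ProEtS.bcP i).op.lan.obj F.obj)).app (op T₀)
  naturality F G φ := by
    let L := (ProEtS.bcP i).op
    let J := Scheme.ProEt.topology Z
    have h1 := congr_app (L.lanUnit.naturality φ.hom) (op C₀)
    have h2 := (L.lan.map φ.hom).naturality toG.op
    have h3 := congr_app (toSheafify_naturality J (L.lan.map φ.hom)) (op T₀)
    change φ.hom.app (op C₀) ≫ (L.lanUnit.app G.obj).app (op C₀) = (L.lanUnit.app F.obj).app (op C₀) ≫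
      (L.lan.map φ.hom).app (op ((ProEtS.bcP i).obj C₀)) at h1
    change (L.lan.map φ.hom).app (op T₀) ≫ (toSheafify J (L.lan.obj G.obj)).app (op T₀) =
      (toSheafify J (L.lan.obj F.obj)).app (op T₀) ≫ (sheafifyMap J (L.lan.map φ.hom)).app (op T₀) at h3
    show φ.hom.app (op C₀) ≫ (L.lanUnit.app G.obj).app (op C₀) ≫ (L.lan.obj G.obj).map toG.op ≫
        (toSheafify J (L.lan.obj G.obj)).app (op T₀) =
      ((L.lanUnit.app F.obj).app (op C₀) ≫ (L.lan.obj F.obj).map toG.op ≫
        (toSheafify J (L.lan.obj F.obj)).app (op T₀)) ≫ (sheafifyMap J (L.lan.map φ.hom)).app (op T₀)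
    rw [reassoc_of% h1, ← reassoc_of% h2, h3]
    simp only [Category.assoc]

theorem preserves_forget_lan (G : Z ⟶ X) (F : X.ProEtᵒᵖ ⥤ (ModuleCat.{u + 1} Λ)) :
    (forget (ModuleCat.{u + 1} Λ)).PreservesPointwiseLeftKanExtension F (ProEtS.bcP G).op := fun c => by
  haveI : PreservesFiniteLimits (ProEtS.bcP G) := Groth.Agent.ProEtCont.preservesFiniteLimits_bcP G
  haveI : RepresentablyFlat (ProEtS.bcP G) := flat_of_preservesFiniteLimits _
  haveI : PreservesFilteredColimitsOfSize.{u, u + 1} (forget (ModuleCat.{u + 1} Λ)) :=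
    preservesFilteredColimitsOfSize_shrink.{u + 1, u + 1, u, u + 1} _
  exact ⟨fun E hE => ⟨(isColimitOfPreserves (forget (ModuleCat.{u + 1} Λ)) hE).ofIsoColimit
    (Functor.LeftExtension.coconeAtWhiskerRightIso _ _ _ E c).symm⟩⟩

theorem bijective_evalHom [ProEtS.PCont i] {C₀ : X.ProEt} {T₀ : Z.ProEt} {toG : T₀ ⟶ (ProEtS.bcP i).obj C₀}
    (h : IsLiftPair toG) (F : EtModW.ModP Λ X) : Function.Bijective ((evalHom i toG).app F) := by
  haveI := h.affine
  let L := (ProEtS.bcP i).op
  let col := Functor.isPointwiseLeftKanExtensionLeftKanExtensionUnit L F.obj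
  have hι : IsIso ((L.leftKanExtensionUnit F.obj).app (op C₀) ≫ (L.leftKanExtension F.obj).map toG.op) :=
    isIso_ι_of_isTerminal' (col (op T₀)) (isTerminal_pair h)
  let P := L.leftKanExtension F.obj
  haveI := preserves_forget_lan i F.obj
  haveI hP : (P ⋙ forget (ModuleCat.{u + 1} Λ)).IsLeftKanExtension
      ((Functor.LeftExtension.postcompose₂ L F.obj (forget (ModuleCat.{u + 1} Λ))).obj
        (Functor.LeftExtension.mk P (L.leftKanExtensionUnit F.obj))).hom :=
    (col.postcompose (forget (ModuleCat.{u + 1} Λ))).isLeftKanExtension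
  let F' := (sheafCompose (Scheme.ProEt.topology X) (forget (ModuleCat.{u + 1} Λ))).obj F
  have hsp : SplitsAt (P ⋙ forget (ModuleCat.{u + 1} Λ)) T₀ := by
    let e : L.leftKanExtension F'.obj ≅ P ⋙ forget (ModuleCat.{u + 1} Λ) :=
      Functor.leftKanExtensionUnique _ (L.leftKanExtensionUnit F'.obj) _
        ((Functor.LeftExtension.postcompose₂ L F.obj (forget (ModuleCat.{u + 1} Λ))).obj
          (Functor.LeftExtension.mk P (L.leftKanExtensionUnit F.obj))).hom
    intro n O hd hc t
    obtain ⟨s, hs, hu⟩ := splitsAt_lan i F' T₀ n O hd hc fun k => e.inv.app _ (t k)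
    refine ⟨e.hom.app _ s, fun k => ?_, fun s' hs' => ?_⟩
    · rw [← NatTrans.naturality_apply e.hom, show (L.leftKanExtension F'.obj).map (pieceHom T₀ (O k)).op s =
        e.inv.app _ (t k) from hs k]
      exact e.inv_hom_id_app_apply _ _
    · have := hu (e.inv.app _ s') fun k => by
        show (L.leftKanExtension F'.obj).map (pieceHom T₀ (O k)).op (e.inv.app _ s') = _
        rw [← NatTrans.naturality_apply e.inv, hs']
      rw [← this]
      exact (e.inv_hom_id_app_apply _ _).symm
  have hb := bijective_toSheafify_ab P T₀ h.decomposable hsp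
  have h2 := (ConcreteCategory.bijective_of_isIso
    ((L.leftKanExtensionUnit F.obj).app (op C₀) ≫ (L.leftKanExtension F.obj).map toG.op))
  exact hb.comp h2


end Eval

theorem subsingleton_sections_of_isEmpty {Y : Scheme.{u}} (A : EtModW.ModP Λ Y) (D : Y.ProEt) [IsEmpty D.left] :
    Subsingleton (A.obj.obj (op D)) := by
  have hA : Presieve.IsSheaf (Scheme.ProEt.topology Y) (A.obj ⋙ forget (ModuleCat.{u + 1} Λ)) :=
    (isSheaf_iff_isSheaf_of_type _ _).1 ((sheafCompose _ (forget (ModuleCat.{u + 1} Λ))).obj A).property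
  exact ⟨fun a b => (hA _ (Scheme.ProEt.bot_mem_topology D)).isSeparatedFor.ext fun Y f hf => hf.elim⟩

theorem isIso_unit_counit_open {U X : Scheme.{u}} (j : U ⟶ X) [IsOpenImmersion j] [ProEtS.JPCont j] [ProEtS.PCont j] :
    IsIso (extZeroMAdj (Λ := Λ) j).unit ∧ IsIso (pullPushMAdj (Λ := Λ) j).counit := by
  haveI := isCoverDense_bcP_open j
  haveI := isLocallyFull_bcP_open j
  haveI : (pushM (Λ := Λ) j).Full := inferInstance
  haveI : (pushM (Λ := Λ) j).Faithful := inferInstance
  let adj : restrM (Λ := Λ) j ⊣ pushM j :=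
    (Adjunction.whiskerLeft (ModuleCat.{u + 1} Λ) (compBcAdj j).op).restrictFullyFaithful
      (fullyFaithfulSheafToPresheaf _ _) (fullyFaithfulSheafToPresheaf _ _) (Iso.refl _) (Iso.refl _)
  let t : Adjunction.Triple (extZeroM (Λ := Λ) j) (restrM j) (pushM j) :=
    { adj₁ := extZeroMAdj j, adj₂ := adj }
  haveI : IsIso t.adj₁.unit := t.isIso_unit_iff_isIso_counit.2 inferInstance
  exact ⟨inferInstanceAs (IsIso t.adj₁.unit), inferInstance⟩

variable {U X Z : Scheme.{u}} (i : Z ⟶ X) [IsClosedImmersion i]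

/-- the unit of the inverse image is bijective on lift pairs -/
theorem bijective_unit_pair [ProEtS.PCont i] {C₀ : X.ProEt} {T₀ : Z.ProEt} {toG : T₀ ⟶ (ProEtS.bcP i).obj C₀}
    (h : IsLiftPair toG) (F : EtModW.ModP Λ X) :
    Function.Bijective fun s => ((pullM i).obj F).obj.map toG.op
      (((pullPushMAdj i).unit.app F).hom.app (op C₀) s) := by
  let e := Functor.sheafPullbackConstruction.sheafPullbackIso (ProEtS.bcP i) (ModuleCat.{u + 1} Λ)
    (Scheme.ProEt.topology X) (Scheme.ProEt.topology Z)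
  let adj' := Functor.sheafPullbackConstruction.sheafAdjunctionContinuous (ProEtS.bcP i) (ModuleCat.{u + 1} Λ)
    (Scheme.ProEt.topology X) (Scheme.ProEt.topology Z)
  have h1 : (pullPushMAdj i).unit.app F ≫ (pushM i).map (e.hom.app F) = adj'.unit.app F :=
    Adjunction.unit_leftAdjointUniq_hom_app _ _ F
  have h2 : (adj'.unit.app F).hom =
      (ProEtS.bcP i).op.lanUnit.app F.obj ≫
        Functor.whiskerLeft (ProEtS.bcP i).op
          (toSheafify (Scheme.ProEt.topology Z) ((ProEtS.bcP i).op.lan.obj F.obj)) := by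
    have h3 := Adjunction.map_restrictFullyFaithful_unit_app
      (adj := (((ProEtS.bcP i).op.lanAdjunction (ModuleCat.{u + 1} Λ)).comp
        (sheafificationAdjunction (Scheme.ProEt.topology Z) (ModuleCat.{u + 1} Λ))))
      (hiC := fullyFaithfulSheafToPresheaf (Scheme.ProEt.topology X) (ModuleCat.{u + 1} Λ))
      (hiD := Functor.FullyFaithful.id _)
      (comm1 := Iso.refl ((sheafToPresheaf (Scheme.ProEt.topology X) (ModuleCat.{u + 1} Λ)) ⋙
        (ProEtS.bcP i).op.lan ⋙ presheafToSheaf (Scheme.ProEt.topology Z) (ModuleCat.{u + 1} Λ)))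
      (comm2 := Iso.refl _) (L := Functor.sheafPullbackConstruction.sheafPullback (ProEtS.bcP i)
        (ModuleCat.{u + 1} Λ) (Scheme.ProEt.topology X) (Scheme.ProEt.topology Z))
      (R := pushM i) F
    refine Eq.trans h3 ?_
    simp [Functor.lanAdjunction_unit]
  have key : ∀ s, (e.hom.app F).hom.app (op T₀) (((pullM i).obj F).obj.map toG.op
      (((pullPushMAdj i).unit.app F).hom.app (op C₀) s)) = (evalHom i toG).app F s := fun s => by
    rw [NatTrans.naturality_apply]
    have h4 := congrArg (fun q => q.hom.app (op C₀) s) h1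
    simp only [h2] at h4
    refine (congrArg _ h4).trans ?_
    exact (NatTrans.naturality_apply (toSheafify (Scheme.ProEt.topology Z) ((ProEtS.bcP i).op.lan.obj F.obj))
      toG.op (((ProEtS.bcP i).op.lanUnit.app F.obj).app (op C₀) s)).symm
  haveI : IsIso ((e.hom.app F).hom.app (op T₀)) :=
    inferInstanceAs (IsIso (((sheafToPresheaf _ _ ⋙ (evaluation _ _).obj (op T₀))).map (e.hom.app F)))
  refine (Function.Bijective.of_comp_iff' (ConcreteCategory.bijective_of_isIso ((e.hom.app F).hom.app (op T₀))) _).1 ?_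
  rw [show (⇑((e.hom.app F).hom.app (op T₀)) ∘ fun s => ((pullM i).obj F).obj.map toG.op
      (((pullPushMAdj i).unit.app F).hom.app (op C₀) s)) = ⇑((evalHom i toG).app F) from funext key]
  exact bijective_evalHom i h F


variable (j : U ⟶ X)

/-- extension by zero vanishes on lift pairs -/
theorem subsingleton_extZero_pair [WeaklyEtale j] [ProEtS.JPCont j] [ProEtS.PCont i]
    (hUZ : Disjoint (Set.range j) (Set.range i)) {C₀ : X.ProEt} {T₀ : Z.ProEt}
    {toG : T₀ ⟶ (ProEtS.bcP i).obj C₀} (h : IsLiftPair toG) (H : EtModW.ModP Λ U) :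
    Subsingleton (((extZeroM j).obj H).obj.obj (op C₀)) := by
  let K := (pullM i).obj ((extZeroM j).obj H)
  have hzero : 𝟙 K = 0 := by
    apply ((pullPushMAdj i).homEquiv _ _).injective
    apply ((extZeroMAdj j).homEquiv _ _).injective
    refine Sheaf.hom_ext (NatTrans.ext (funext fun ⟨W⟩ => ?_))
    haveI : IsEmpty ((ProEtS.bcP i).obj ((ProEtS.compP j).obj W)).left := ⟨fun p => by
      have h1 := congrArg (fun m => m p) (pullback.condition (f := ((ProEtS.compP j).obj W).hom) (g := i))
      exact Set.disjoint_left.1 hUZ ⟨W.hom (pullback.fst ((ProEtS.compP j).obj W).hom i p), h1⟩ ⟨_, rfl⟩⟩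
    haveI := subsingleton_sections_of_isEmpty K ((ProEtS.bcP i).obj ((ProEtS.compP j).obj W))
    ext s
    exact Subsingleton.elim (α := K.obj.obj (op ((ProEtS.bcP i).obj ((ProEtS.compP j).obj W)))) _ _
  have : Subsingleton (K.obj.obj (op T₀)) := ⟨fun a b => by
    have ha : ∀ a : K.obj.obj (op T₀), a = 0 := fun a => congrArg (fun q => q.hom.app (op T₀) a) hzero
    rw [ha a, ha b]⟩
  exact ⟨fun a b => (bijective_unit_pair i h _).1 (Subsingleton.elim _ _)⟩


variable [IsOpenImmersion j] [QuasiCompact j]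

omit [IsClosedImmersion i] [QuasiCompact j] in
/-- sheaf maps bijective after restriction are bijective on objects over the open part -/
theorem bijective_of_isIso_restr [ProEtS.JPCont j] {A B : EtModW.ModP Λ X} (φ : A ⟶ B)
    [IsIso ((restrM j).map φ)] (W : X.ProEt) (hW : Set.range W.hom ⊆ Set.range j) :
    Function.Bijective (φ.hom.app (op W)) := by
  let l := IsOpenImmersion.lift j W.hom hW
  have hl : l ≫ j = W.hom := IsOpenImmersion.lift_fac _ _ _
  haveI : WeaklyEtale l := by
    haveI : WeaklyEtale (l ≫ j) := by rw [hl]; infer_instance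
    exact WeaklyEtale.of_comp l j
  let W' : U.ProEt := Scheme.ProEt.mk l
  let e : (ProEtS.compP j).obj W' ≅ W := MorphismProperty.Over.isoMk (Iso.refl _) (by
    show 𝟙 W.left ≫ W.hom = l ≫ j
    rw [hl, Category.id_comp])
  haveI h1 : IsIso (φ.hom.app (op ((ProEtS.compP j).obj W'))) :=
    inferInstanceAs (IsIso (((sheafToPresheaf _ _ ⋙ (evaluation _ _).obj (op W'))).map ((restrM j).map φ)))
  haveI : IsIso (φ.hom.app (op W)) := by
    have hn := φ.hom.naturality e.inv.op
    rw [← IsIso.eq_inv_comp] at hn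
    rw [hn]
    infer_instance
  exact ConcreteCategory.bijective_of_isIso _

theorem isIso_of_bijective_open_pairs [ProEtS.JPCont j] (hc : Set.range j = (Set.range i)ᶜ)
    {A B : EtModW.ModP Λ X} (φ : A ⟶ B) [IsIso ((restrM j).map φ)]
    (h : ∀ (C₀ : X.ProEt) (T₀ : Z.ProEt) (toG : T₀ ⟶ (ProEtS.bcP i).obj C₀), IsLiftPair toG →
      Function.Bijective (φ.hom.app (op C₀))) : IsIso φ := by
  haveI : Sheaf.IsLocallyInjective φ := ⟨fun {D} a b hab => by
    refine mem_of_open_of_pairs i j hc _ (fun W f hW => ?_) fun C₀ T₀ toG f hp => ?_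
    · apply (bijective_of_isIso_restr j φ W hW).1
      rw [NatTrans.naturality_apply, NatTrans.naturality_apply]
      exact congrArg (B.obj.map f.op) hab
    · apply (h C₀ T₀ toG hp).1
      rw [NatTrans.naturality_apply, NatTrans.naturality_apply]
      exact congrArg (B.obj.map f.op) hab⟩
  haveI : Sheaf.IsLocallySurjective φ := ⟨fun {D} s => mem_of_open_of_pairs i j hc _
    (fun W f hW => (bijective_of_isIso_restr j φ W hW).2 (B.obj.map f.op s))
    fun C₀ T₀ toG f hp => (h C₀ T₀ toG hp).2 (B.obj.map f.op s)⟩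
  exact (Sheaf.isLocallyBijective_iff_isIso φ).1 ⟨inferInstance, inferInstance⟩


theorem exists_shortExact [ProEtS.JPCont j] [ProEtS.PCont i] (hc : Set.range j = (Set.range i)ᶜ)
    (F : EtModW.ModP Λ X) :
    ∃ h : (extZeroMAdj j).counit.app F ≫ (pullPushMAdj i).unit.app F = 0,
      (ShortComplex.mk _ _ h).ShortExact := by
  haveI : ProEtS.PCont j := Groth.Agent.ProEtCont.pCont j
  have hUZ : Disjoint (Set.range j) (Set.range i) := hc ▸ disjoint_compl_left
  let ε := (extZeroMAdj j).counit.app F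
  let η := (pullPushMAdj i).unit.app F
  let A := (extZeroM j).obj ((restrM j).obj F)
  let K := (pullM i).obj F
  let B := (pushM i).obj K
  have hB : ∀ W : X.ProEt, Set.range W.hom ⊆ Set.range j → Subsingleton (B.obj.obj (op W)) := fun W hW => by
    haveI : IsEmpty ((ProEtS.bcP i).obj W).left := ⟨fun p => by
      have h1 := congrArg (fun m => m p) (pullback.condition (f := W.hom) (g := i))
      exact Set.disjoint_left.1 hUZ (hW ⟨pullback.fst W.hom i p, h1⟩) ⟨_, rfl⟩⟩
    exact subsingleton_sections_of_isEmpty K ((ProEtS.bcP i).obj W)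
  haveI : IsIso ((restrM j).map ε) := by
    haveI := (isIso_unit_counit_open (Λ := Λ) j).1
    exact IsIso.of_isIso_fac_left ((extZeroMAdj j).right_triangle_components F)
  have hε := bijective_of_isIso_restr j ε
  have h0 : ε ≫ η = 0 := by
    apply ((extZeroMAdj j).homEquiv _ _).injective
    refine Sheaf.hom_ext (NatTrans.ext (funext fun ⟨W⟩ => ?_))
    haveI := hB ((ProEtS.compP j).obj W) (by rintro _ ⟨w, rfl⟩; exact ⟨W.hom w, rfl⟩)
    ext s
    exact Subsingleton.elim (α := B.obj.obj (op ((ProEtS.compP j).obj W))) _ _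
  refine ⟨h0, ?_⟩
  have hηC : ∀ {C₀ : X.ProEt} {T₀ : Z.ProEt} {toG : T₀ ⟶ (ProEtS.bcP i).obj C₀}, IsLiftPair toG →
      Function.Bijective (η.hom.app (op C₀)) := fun {C₀ T₀ toG} h => by
    haveI := h.isIso
    exact (Function.Bijective.of_comp_iff' (ConcreteCategory.bijective_of_isIso (K.obj.map toG.op)) _).1
      (bijective_unit_pair i h F)
  haveI hlε : Sheaf.IsLocallyInjective ε := ⟨fun {D} a b hab => by
    refine mem_of_open_of_pairs i j hc _ (fun W f hW => ?_) fun C₀ T₀ toG f hp => ?_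
    · apply (hε W hW).1
      rw [NatTrans.naturality_apply, NatTrans.naturality_apply]
      exact congrArg (F.obj.map f.op) hab
    · haveI := subsingleton_extZero_pair i j hUZ hp ((restrM j).obj F)
      exact Subsingleton.elim (α := A.obj.obj (op C₀)) _ _⟩
  haveI : Mono ε := Sheaf.mono_of_isLocallyInjective ε
  haveI : Sheaf.IsLocallySurjective η := ⟨fun {D} t => mem_of_open_of_pairs i j hc _
    (fun W f hW => ⟨0, (hB W hW).elim _ _⟩) fun C₀ T₀ toG f hp => (hηC hp).2 (B.obj.map f.op t)⟩
  haveI : Epi η := (Sheaf.isLocallySurjective_iff_epi' (ModuleCat.{u + 1} Λ) η).1 ‹_›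
  refine ShortComplex.ShortExact.mk ?_
  rw [ShortComplex.exact_iff_epi_kernel_lift]
  let l := kernel.lift η ε h0
  haveI hm : ∀ W : X.ProEt, Mono ((kernel.ι η).hom.app (op W)) := fun W =>
    inferInstanceAs (Mono ((sheafToPresheaf _ _ ⋙ (evaluation _ _).obj (op W)).map (kernel.ι η)))
  haveI : Sheaf.IsLocallySurjective l := ⟨fun {D} k => by
    have hι : ∀ (W : X.ProEt) (a : A.obj.obj (op W)), (kernel.ι η).hom.app (op W) (l.hom.app (op W) a) = ε.hom.app (op W) a :=
      fun W a => congrArg (fun q => q.hom.app (op W) a) (kernel.lift_ι η ε h0)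
    refine mem_of_open_of_pairs i j hc _ (fun W f hW => ?_) fun C₀ T₀ toG f hp => ?_
    · obtain ⟨a, ha⟩ := (hε W hW).2 ((kernel.ι η).hom.app (op W) ((kernel η).obj.map f.op k))
      exact ⟨a, (ModuleCat.mono_iff_injective _).1 (hm W) ((hι W a).trans ha)⟩
    · refine ⟨0, (ModuleCat.mono_iff_injective _).1 (hm C₀) ?_⟩
      rw [map_zero, map_zero]
      apply (hηC hp).1
      rw [map_zero]
      exact (congrArg (fun q => q.hom.app (op C₀) ((kernel η).obj.map f.op k)) (kernel.condition η)).symm⟩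
  exact (Sheaf.isLocallySurjective_iff_epi' (ModuleCat.{u + 1} Λ) l).1 ‹_›


end Groth.Agent.ProEtLim.Recoll
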